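import Groth.Agent.CurveLib.MaxSections
import Groth.Agent.CurveLib.GlobalFun
import Groth.Agent.CurveFF.Point2
import Groth.Agent.RefOne.Divisor
import Groth.Agent.IntLib.Divisor
import Groth.Agent.HilbObsLib.Ideal

/-!
# Riemann–Roch bounds on proper integral curves, with no duality

If `H¹(M) ≠ 0` and every nonzero section of `M` is an isomorphism outside finitely many points, then
`h⁰(M) ≤ g`: a nonzero functional on `H¹(M)` pulls back injectively to functionals on `H¹(O)`.
-/

set_option autoImplicit false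
set_option backward.isDefEq.respectTransparency false
set_option backward.isDefEq.respectTransparency.types false
set_option linter.style.haveILetI false

universe u

open CategoryTheory CategoryTheory.Limits AlgebraicGeometry TopologicalSpace Opposite
open Groth.Agent.PullbackMod Groth.Agent.DCohLib Groth.Agent.CurveLib

noncomputable section

namespace Groth.Agent.SingRRLib

variable (k : Type u) [Field k] {X : Scheme.{u}} [X.Over (Spec (CommRingCat.of k))]
  [IsProper (X ↘ Spec (CommRingCat.of k))]

omit [IsProper (X ↘ Spec (CommRingCat.of k))] in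
/-- A bilinear map with surjective partial maps bounds the dimension. -/
theorem finrank_le_of_bilin {A B C : Type*} [AddCommGroup A] [Module k A] [AddCommGroup B] [Module k B]
    [AddCommGroup C] [Module k C] [Module.Finite k B] [Nontrivial C] (m : A →ₗ[k] B →ₗ[k] C)
    (h : ∀ a, a ≠ 0 → Function.Surjective (m a)) : Module.finrank k A ≤ Module.finrank k B := by
  obtain ⟨v, hv⟩ := exists_ne (0 : C)
  obtain ⟨φ, hφ⟩ : ∃ φ : Module.Dual k C, φ v ≠ 0 := by
    by_contra hh
    push Not at hh
    exact hv ((Module.forall_dual_apply_eq_zero_iff k v).1 hh)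
  let Φ : A →ₗ[k] Module.Dual k B := m.compr₂ φ
  have hΦ : Function.Injective Φ := by
    rw [injective_iff_map_eq_zero]
    intro a ha
    by_contra hne
    obtain ⟨w, hw⟩ := h a hne v
    refine hφ ?_
    rw [← hw]
    exact LinearMap.congr_fun ha w
  exact (LinearMap.finrank_le_finrank_of_injective hΦ).trans (Subspace.dual_finrank_eq).le

/-- `h⁰(M) ≤ g` when `H¹(M) ≠ 0` and nonzero sections of `M` are generically surjective. -/
theorem h0_le_genus (hdim : topologicalKrullDim X ≤ 1) (M : X.Modules) [Nontrivial (Coh.HH X M 1)]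
    (hM : ∀ s : Coh.structureModule X ⟶ M, s ≠ 0 → ∃ C : Set X, IsClosed C ∧ topologicalKrullDim C ≤ 0 ∧
      ∀ x ∉ C, Function.Surjective (stalkLin s x)) :
    Module.finrank k (Coh.HH X M 0) ≤ Curv2.genus k X := by
  haveI := EulerIneqLib.isNoetherian_proper (X := X) k
  have e₀ := hMap_bijective_iso (k := k) (AmpleLib.unitL (Coh.structureModule X)) 1
  haveI : Nontrivial (Coh.HH X (tmod (Coh.structureModule X) M) 1) :=
    (Equiv.ofBijective _ (hMap_bijective_iso (k := k) (AmpleLib.unitL M) 1)).nontrivial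
  haveI := EulerIneqLib.finite_HH (k := k) (DevLib.isCoh_structureModule X) 1
  haveI : Module.Finite k (Coh.HH X (tmod (Coh.structureModule X) (Coh.structureModule X)) 1) :=
    Module.Finite.equiv (LinearEquiv.ofBijective _ e₀).symm
  refine (finrank_le_of_bilin k (mulH (k := k) (Coh.structureModule X) M 1) fun c hc => ?_).trans
    (LinearEquiv.ofBijective _ e₀).finrank_eq.le
  obtain ⟨C, hC, hd, hs⟩ := hM _ (secHom_secOf_ne_zero M hc)
  rw [mulH_apply]
  refine hMap_one_surjective hdim _ hC hd fun x hx z => ?_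
  obtain ⟨z, rfl⟩ := (stalkTensor x (Coh.structureModule X) M).surjective z
  obtain ⟨w, rfl⟩ := LinearMap.lTensor_surjective ((Coh.structureModule X).presheaf.stalk x) (hs x hx) z
  exact ⟨stalkTensor x _ _ w, stalkTensor_natural_right x _ w⟩

variable [IsIntegral X]

include k in
/-- Nonzero sections of a submodule of an invertible module are generically surjective. -/
theorem gen_surj_of_mono (hdim : topologicalKrullDim X ≤ 1) {M L : X.Modules} (hL : PicF.IsInvertible L) (ι : M ⟶ L) [Mono ι]
    (s : Coh.structureModule X ⟶ M) (hs : s ≠ 0) :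
    ∃ C : Set X, IsClosed C ∧ topologicalKrullDim C ≤ 0 ∧ ∀ x ∉ C, Function.Surjective (stalkLin s x) := by
  have hne : s ≫ ι ≠ 0 := fun h => hs ((cancel_mono ι).1 (h.trans zero_comp.symm))
  obtain ⟨-, hC, hd, -, hm⟩ := deg_eq_add_coker (k := k) hdim ParaFLib.isInvertible_structureModule hL hne
  haveI := hm
  refine ⟨_, hC, hd, fun x hx z => ?_⟩
  haveI : Subsingleton ((cokernel (s ≫ ι)).presheaf.stalk x) := not_not.1 hx
  obtain ⟨w, hw⟩ := (DevLib.coker_exact (s ≫ ι) x (stalkLin ι x z)).1 (Subsingleton.elim _ _)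
  rw [stalkLin_comp, LinearMap.comp_apply] at hw
  exact ⟨w, (mono_iff_stalk ι).1 inferInstance x hw⟩

/-- `χ(M) < g` for a submodule of an invertible module with `H¹(M) ≠ 0`. -/
theorem euler_lt_genus (hdim : topologicalKrullDim X ≤ 1) {M L : X.Modules} (hM : Coh.IsCoh M)
    (hL : PicF.IsInvertible L) (ι : M ⟶ L) [Mono ι] [Nontrivial (Coh.HH X M 1)] :
    Curv2.euler k X M < Curv2.genus k X := by
  haveI := EulerIneqLib.isNoetherian_proper (X := X) k
  haveI := EulerIneqLib.finite_HH (k := k) hM 1
  have h1 := h0_le_genus k hdim M (gen_surj_of_mono k hdim hL ι)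
  have h2 : 0 < Module.finrank k (Coh.HH X M 1) := Module.finrank_pos
  rw [euler_eq_sub (k := k) hdim]
  omega

theorem mono_idealModι (Z : X.IdealSheafData) : Mono (ClSub.idealModι Z) := by
  unfold ClSub.idealModι; infer_instance

/-- The inclusion `I ⊗ L ⟶ L`. -/
abbrev twistι (Z : X.IdealSheafData) (L : X.Modules) : tmod (ClSub.idealMod Z) L ⟶ L :=
  tmap (ClSub.idealModι Z) L ≫ (tmodUnit L).hom

theorem mono_twistι (Z : X.IdealSheafData) {L : X.Modules} (hL : PicF.IsInvertible L) : Mono (twistι Z L) := by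
  haveI := mono_idealModι Z
  haveI := mono_tmap (ClSub.idealModι Z) (freeAt_one_of_isInvertible hL)
  exact mono_comp _ _

/-- `O/I` as a cokernel. -/
def cokerIdealIso (Z : X.IdealSheafData) : cokernel (ClSub.idealModι Z) ≅ ClSub.quotMod Z :=
  haveI : Epi (ClSub.toSubscheme Z) := HilbObsLib.epi_toSubscheme Z
  IsColimit.coconePointUniqueUpToIso (cokernelIsCokernel _)
    (Abelian.epiIsCokernelOfKernel _ (kernelIsKernel (ClSub.toSubscheme Z)))

theorem dim_support_coker_idealModι (Z : X.IdealSheafData) (hZ : topologicalKrullDim (Z.support : Set X) ≤ 0) :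
    topologicalKrullDim (CohB1.support (cokernel (ClSub.idealModι Z))) ≤ 0 := by
  have hsub : CohB1.support (cokernel (ClSub.idealModι Z)) ⊆ (Z.support : Set X) := fun x hx =>
    IntLib.support_quotMod_subset Z fun (h : Subsingleton _) =>
      hx ((((isIso_iff_stalk (cokerIdealIso Z).hom).1 inferInstance x).1).subsingleton)
  exact (Topology.IsEmbedding.inclusion hsub).isInducing.topologicalKrullDim_le.trans hZ

/-- `χ(I ⊗ L) = χ(L) - h⁰(O_Z)`. -/
theorem euler_ideal_tensor (Z : X.IdealSheafData) (hZ : topologicalKrullDim (Z.support : Set X) ≤ 0) {L : X.Modules}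
    (hL : PicF.IsInvertible L) :
    Curv2.euler k X (tmod (ClSub.idealMod Z) L) =
      Curv2.euler k X L - Module.finrank k (Coh.HH X (ClSub.quotMod Z) 0) := by
  haveI := EulerIneqLib.isNoetherian_proper (X := X) k
  haveI := mono_idealModι Z
  have hI := RefOne.isCoh_idealMod Z
  have hO := DevLib.isCoh_structureModule X
  have h := euler_tmod_sub (k := k) (ClSub.idealModι Z) (freeAt_one_of_isInvertible hL) hI hO
    (isCoh_of_isInvertible hL) (dim_support_coker_idealModι Z hZ)
  have hQ := (QCohLib.isCoh_kernel_cokernel (ClSub.idealModι Z) hI hO).2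
  have h1 := euler_shortExact (K := k) (DevLib.cokerSeq_shortExact (ClSub.idealModι Z)) hI hO hQ
  change Curv2.euler k X (Coh.structureModule X) =
    Curv2.euler k X (ClSub.idealMod Z) + Curv2.euler k X (cokernel (ClSub.idealModι Z)) at h1
  rw [euler_iso (K := k) (tmodUnit L), h1, euler_iso (K := k) (cokerIdealIso Z),
    euler_of_dim_le_zero (k := k) Z.support.isClosed (IntLib.support_quotMod_subset Z) hZ] at h
  omega

/-- The Euler characteristic of an invertible module. -/
theorem euler_eq_deg (hdim : topologicalKrullDim X ≤ 1)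
    (h0 : Module.finrank k (Coh.HH X (Coh.structureModule X) 0) = 1) (L : X.Modules) :
    Curv2.euler k X L = Curv2.deg k X L 1 + 1 - Curv2.genus k X := by
  have h := euler_eq_sub (k := k) (M := Coh.structureModule X) hdim
  rw [h0] at h
  unfold Curv2.deg
  rw [h]
  simp only [Curv2.genus]
  push_cast
  ring

/-- `H¹(I ⊗ L) ≠ 0` bounds the degree. -/
theorem deg_le_of_nontrivial (hdim : topologicalKrullDim X ≤ 1)
    (h0 : Module.finrank k (Coh.HH X (Coh.structureModule X) 0) = 1) {L : X.Modules} (hL : PicF.IsInvertible L)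
    (Z : X.IdealSheafData) (hZ : topologicalKrullDim (Z.support : Set X) ≤ 0)
    [Nontrivial (Coh.HH X (tmod (ClSub.idealMod Z) L) 1)] :
    Curv2.deg k X L 1 ≤ 2 * (Curv2.genus k X : ℤ) - 2 + Module.finrank k (Coh.HH X (ClSub.quotMod Z) 0) := by
  haveI := EulerIneqLib.isNoetherian_proper (X := X) k
  haveI := mono_twistι Z hL
  have h := euler_lt_genus k hdim (isCoh_tmod (RefOne.isCoh_idealMod Z) (isCoh_of_isInvertible hL)) hL (twistι Z L)
  rw [euler_ideal_tensor k Z hZ hL, euler_eq_deg k hdim h0] at h
  omega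

/-- `H¹(L) = 0` above degree `2g - 2`. -/
theorem subsingleton_H1_of_deg (hdim : topologicalKrullDim X ≤ 1)
    (h0 : Module.finrank k (Coh.HH X (Coh.structureModule X) 0) = 1) {L : X.Modules} (hL : PicF.IsInvertible L)
    (hdeg : 2 * (Curv2.genus k X : ℤ) - 2 < Curv2.deg k X L 1) : Subsingleton (Coh.HH X L 1) := by
  haveI := EulerIneqLib.isNoetherian_proper (X := X) k
  by_contra h
  haveI := not_subsingleton_iff_nontrivial.1 h
  have h1 := euler_lt_genus k hdim (isCoh_of_isInvertible hL) hL (𝟙 L)
  rw [euler_eq_deg k hdim h0] at h1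
  omega

/-- Sections cannot all vanish on a finite subscheme when the degree is at least `2g`. -/
theorem h0_ideal_lt (hdim : topologicalKrullDim X ≤ 1)
    (h0 : Module.finrank k (Coh.HH X (Coh.structureModule X) 0) = 1) {L : X.Modules} (hL : PicF.IsInvertible L)
    (Z : X.IdealSheafData) (hZ : topologicalKrullDim (Z.support : Set X) ≤ 0)
    (hne : 0 < Module.finrank k (Coh.HH X (ClSub.quotMod Z) 0))
    (hdeg : 2 * (Curv2.genus k X : ℤ) ≤ Curv2.deg k X L 1) :
    Module.finrank k (Coh.HH X (tmod (ClSub.idealMod Z) L) 0) < Module.finrank k (Coh.HH X L 0) := by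
  haveI := EulerIneqLib.isNoetherian_proper (X := X) k
  haveI := mono_twistι Z hL
  haveI := subsingleton_H1_of_deg k hdim h0 hL (by omega)
  have hL0 := euler_eq_deg k hdim h0 L
  rw [euler_eq_sub (k := k) hdim, Module.finrank_zero_of_subsingleton (R := k) (M := Coh.HH X L 1)] at hL0
  rcases subsingleton_or_nontrivial (Coh.HH X (tmod (ClSub.idealMod Z) L) 1) with h | h
  · have h1 := euler_ideal_tensor k Z hZ hL
    rw [euler_eq_sub (k := k) hdim, euler_eq_sub (k := k) hdim,
      Module.finrank_zero_of_subsingleton (R := k) (M := Coh.HH X L 1),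
      Module.finrank_zero_of_subsingleton (R := k) (M := Coh.HH X (tmod (ClSub.idealMod Z) L) 1)] at h1
    omega
  · have h1 := h0_le_genus k hdim _ (gen_surj_of_mono k hdim hL (twistι Z L))
    omega

/-- A section not lying in `I ⊗ L`. -/
theorem exists_section_notMem (hdim : topologicalKrullDim X ≤ 1)
    (h0 : Module.finrank k (Coh.HH X (Coh.structureModule X) 0) = 1) {L : X.Modules} (hL : PicF.IsInvertible L)
    (Z : X.IdealSheafData) (hZ : topologicalKrullDim (Z.support : Set X) ≤ 0)
    (hne : 0 < Module.finrank k (Coh.HH X (ClSub.quotMod Z) 0))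
    (hdeg : 2 * (Curv2.genus k X : ℤ) ≤ Curv2.deg k X L 1) :
    ∃ σ : Γ(L, ⊤), σ ∉ Set.range ((twistι Z L).app ⊤) := by
  haveI := EulerIneqLib.isNoetherian_proper (X := X) k
  by_contra h
  push Not at h
  have hsur : Function.Surjective (hMap (k := k) (twistι Z L) 0) := fun c => by
    obtain ⟨b, hb⟩ := h (secOf L c)
    exact ⟨(secOf _).symm b, (secOf L).injective (by rw [secOf_hMap, AddEquiv.apply_symm_apply]; exact hb)⟩
  haveI := EulerIneqLib.finite_HH (k := k) (isCoh_tmod (RefOne.isCoh_idealMod Z) (isCoh_of_isInvertible hL)) 0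
  have h1 := LinearMap.finrank_range_le (hMap (k := k) (twistι Z L) 0)
  rw [LinearMap.range_eq_top.2 hsur, finrank_top] at h1
  have h2 := h0_ideal_lt k hdim h0 hL Z hZ hne hdeg
  omega

end Groth.Agent.SingRRLib
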