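import Groth.Agent.SingRRLib.Sections

/-!
# Curves of genus one
-/

set_option autoImplicit false
set_option backward.isDefEq.respectTransparency false
set_option backward.isDefEq.respectTransparency.types false
set_option linter.style.haveILetI false

universe u

open CategoryTheory CategoryTheory.Limits AlgebraicGeometry
open Groth.Agent.CurveLib

noncomputable section

namespace Groth.Agent.SingRRLib

variable {k : Type u} [Field k] {X : Scheme.{u}} [X.Over (Spec (CommRingCat.of k))]
  [IsIntegral X] [IsProper (X ↘ (Spec (CommRingCat.of k)))]

/-- An integral curve with `h¹(O) = 1` has only constant functions. -/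
theorem h0_eq_one_of_genus_one (hdim : topologicalKrullDim X ≤ 1) (hg : Curv2.genus k X = 1) :
    Module.finrank k (Coh.HH X (Coh.structureModule X) 0) = 1 := by
  haveI := EulerIneqLib.isNoetherian_proper (X := X) k
  haveI := EulerIneqLib.finite_HH (k := k) (DevLib.isCoh_structureModule X) 0
  haveI : Nontrivial (Coh.HH X (Coh.structureModule X) 1) :=
    Module.nontrivial_of_finrank_pos (R := k) (show 0 < Curv2.genus k X by omega)
  have hle := h0_le_genus k hdim (Coh.structureModule X)
    (gen_surj_of_mono k hdim ParaFLib.isInvertible_structureModule (𝟙 _))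
  have hne : (secOf (Coh.structureModule X)).symm (show Γ(Coh.structureModule X, ⊤) from (1 : Γ(X, ⊤))) ≠ 0 :=
    fun h => one_ne_zero (α := Γ(X, ⊤)) (((secOf (Coh.structureModule X)).apply_symm_apply _).symm.trans
      ((congrArg (secOf _) h).trans (map_zero _)))
  haveI : Nontrivial (Coh.HH X (Coh.structureModule X) 0) := ⟨⟨_, 0, hne⟩⟩
  have hpos : 0 < Module.finrank k (Coh.HH X (Coh.structureModule X) 0) := Module.finrank_pos
  omega

/-- Modules of degree at least two on integral curves of genus one are globally generated. -/
theorem isGloballyGenerated_of_genus_one (hdim : topologicalKrullDim X ≤ 1) (hg : Curv2.genus k X = 1)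
    {L : X.Modules} (hL : PicF.IsInvertible L) (hdeg : 2 ≤ Curv2.deg k X L 1) : Curv2.IsGloballyGenerated L :=
  isGloballyGenerated_of_deg hdim (h0_eq_one_of_genus_one hdim hg) hL (by omega)

end Groth.Agent.SingRRLib
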