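import Groth.Agent.SingRRLib.Sep
import Groth.Agent.SingRRLib.GenusOne
import Groth.Agent.InfNbhdLib.Scheme
import Groth.Agent.ZeroConnLib.Basic

/-!
# Multiples of a smooth rational point
-/

set_option autoImplicit false
set_option backward.isDefEq.respectTransparency false
set_option backward.isDefEq.respectTransparency.types false
set_option linter.style.haveILetI false

universe u

open CategoryTheory CategoryTheory.Limits AlgebraicGeometry TopologicalSpace Opposite IsLocalRing
open Groth.Agent.CurveLib Groth.Agent.PullbackMod Groth.Agent.DCohLib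

noncomputable section

namespace Groth.Agent.SingRRLib

variable {k : Type u} [Field k] {X : Scheme.{u}} [X.Over (Spec (CommRingCat.of k))]
  [IsProper (X ↘ Spec (CommRingCat.of k))] [IsIntegral X]

omit [IsProper (X ↘ Spec (CommRingCat.of k))] in
/-- The maximal ideal at a regular closed point of a curve is principal. -/
theorem exists_uniformiser (hdim : topologicalKrullDim X = 1) {p : X} (hp : IsClosed ({p} : Set X))
    (hreg : IsRegularLocalRing (X.presheaf.stalk p)) :
    ∃ π : X.presheaf.stalk p, π ≠ 0 ∧ maximalIdeal (X.presheaf.stalk p) = Ideal.span {π} := by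
  haveI := hreg
  have hne : p ≠ genericPoint X := fun e => by
    have h1 : (⊤ : Set X) = {p} := by
      rw [Set.top_eq_univ, ← (genericPoint_spec X).def, ← e, hp.closure_eq]
    have h2 : topologicalKrullDim X ≤ 0 := by
      rw [← (Homeomorph.Set.univ X).isHomeomorph.topologicalKrullDim_eq,
        show (Set.univ : Set X) = {p} from h1]
      exact topologicalKrullDim_zero_of_discreteTopology ({p} : Set X)
    rw [hdim] at h2
    exact absurd h2 (by decide)
  have hspec : ∀ v : X, genericPoint X ⤳ v := fun v => (genericPoint_spec X).specializes trivial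
  have hle : ringKrullDim (X.presheaf.stalk p) ≤ 1 := by
    rw [ringKrullDim_stalk_eq_coheight]
    have : Order.coheight p ≤ 1 := by
      refine Order.coheight_le fun s hs => ?_
      by_contra hlen
      push Not at hlen
      have h2 : 2 ≤ s.length := by
        have : (1 : ℕ) < s.length := by exact_mod_cast hlen
        omega
      have hstep : ∀ {a b : X}, a < b → (⟨closure {a}, isIrreducible_singleton.closure, isClosed_closure⟩ :
          IrreducibleCloseds X) < ⟨closure {b}, isIrreducible_singleton.closure, isClosed_closure⟩ := fun {a b} h =>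
        SetLike.coe_ssubset_coe.1 ⟨closure_minimal (Set.singleton_subset_iff.2
          (specializes_iff_mem_closure.1 (show b ⤳ a from h.le))) isClosed_closure,
          fun h' => h.not_ge (show a ⤳ b from specializes_iff_mem_closure.2 (h' (subset_closure rfl)))⟩
      let t : LTSeries (IrreducibleCloseds X) :=
        s.map (fun a => ⟨closure {a}, isIrreducible_singleton.closure, isClosed_closure⟩) (fun _ _ h => hstep h)
      have := (Order.LTSeries.length_le_krullDim t).trans hdim.le
      have h3 : (s.length : WithBot ℕ∞) ≤ ((1 : ℕ) : WithBot ℕ∞) := this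
      have : s.length ≤ 1 := by exact_mod_cast h3
      omega
    exact_mod_cast this
  obtain ⟨π, hπ⟩ : ∃ π, maximalIdeal (X.presheaf.stalk p) = Ideal.span {π} := by
    have hfg : (maximalIdeal (X.presheaf.stalk p)).FG := Ideal.fg_of_isNoetherianRing _
    have hs : (maximalIdeal (X.presheaf.stalk p)).spanFinrank ≤ 1 := by
      have h := hreg.spanFinrank_maximalIdeal ▸ hle
      exact_mod_cast h
    have hc := Submodule.FG.generators_ncard hfg
    haveI := (Submodule.FG.finite_generators hfg).to_subtype
    have hc1 : (maximalIdeal (X.presheaf.stalk p)).generators.ncard ≤ 1 := hc ▸ hs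
    rcases (Set.ncard_le_one_iff_subsingleton.1 hc1).eq_empty_or_singleton
      with h | ⟨π, h⟩
    · exact ⟨0, by rw [← Submodule.span_generators (maximalIdeal (X.presheaf.stalk p)), h]; simp⟩
    · exact ⟨π, by rw [← Submodule.span_generators (maximalIdeal (X.presheaf.stalk p)), h]⟩
  refine ⟨π, fun h0 => hne ?_, hπ⟩
  have hfield : IsField (X.presheaf.stalk p) := IsLocalRing.isField_iff_maximalIdeal_eq.2 (by
    rw [hπ, h0, Ideal.span_singleton_eq_bot])
  letI := hfield.toField
  have h1 : ringKrullDim (X.presheaf.stalk p) = 0 := ringKrullDim_eq_zero_of_isField hfield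
  rw [ringKrullDim_stalk_eq_coheight] at h1
  have : IsMax p := Order.coheight_eq_zero.1 (by exact_mod_cast h1)
  exact ((hspec p).antisymm (this (show p ≤ genericPoint X from hspec p))).eq.symm

variable {p : X} (hp : IsClosed ({p} : Set X)) (hrat : Function.Surjective (Curv2.resMap k X p))

/-- The constant functions at a point. -/
abbrev cst (p : X) : k →+* X.presheaf.stalk p :=
  (X.presheaf.germ ⊤ p trivial).hom.comp (Coh.toGlobal (X ↘ Spec (CommRingCat.of k)))

include hrat in
omit [IsIntegral X] [IsProper (X ↘ Spec (CommRingCat.of k))] in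
theorem exists_cst_sub_mem (r : X.presheaf.stalk p) :
    ∃ c : k, r - cst p c ∈ maximalIdeal (X.presheaf.stalk p) := by
  obtain ⟨c, hc⟩ := hrat (X.residue p r)
  refine ⟨c, (IsLocalRing.residue_eq_zero_iff _).1 ?_⟩
  rw [map_sub, sub_eq_zero]
  exact hc.symm

include hrat in
/-- `h⁰` of the `n`-th neighbourhood of a smooth rational point is `n`. -/
theorem finrank_quot_pow (hdim : topologicalKrullDim X = 1) (hreg : IsRegularLocalRing (X.presheaf.stalk p)) (n : ℕ) :
    Module.finrank k (Coh.HH X (ClSub.quotMod (Scheme.IdealSheafData.vanishingIdeal (⟨{p}, hp⟩ : Closeds X) ^ n)) 0) = n := by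
  haveI := EulerIneqLib.isNoetherian_proper (X := X) k
  obtain ⟨π, hπ0, hπ⟩ := exists_uniformiser hdim hp hreg
  let Z := Scheme.IdealSheafData.vanishingIdeal (⟨{p}, hp⟩ : Closeds X) ^ n
  have hZp : IntMult.stalkIdeal Z p = Ideal.span {π ^ n} := by
    rw [InfNbhdLib.stalkIdeal_pow, (CurveFF.stalkIdeal_point hp).1, hπ, Ideal.span_singleton_pow]
  have hZy : ∀ y, y ≠ p → IntMult.stalkIdeal Z y = ⊤ := fun y hy => by
    rw [InfNbhdLib.stalkIdeal_pow, (CurveFF.stalkIdeal_point hp).2 y hy, Ideal.top_pow]
  haveI := mono_idealModι Z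
  rw [← ShBCLib.finrank_HH_iso (K := k) (cokerIdealIso Z) 0]
  set Q := cokernel (ClSub.idealModι Z)
  have hsupp : CohB1.support Q ⊆ {p} := fun y hy => by
    by_contra hyp
    refine hy (DevLib.subsingleton_coker _ fun z => ?_)
    obtain ⟨r, rfl⟩ := (ParaFLib.bijective_oneG y).2 z
    obtain ⟨w, hw⟩ := (HilbObsLib.mem_range_idealModι Z y r).2 (by rw [hZy y hyp]; trivial)
    exact ⟨w, hw⟩
  have hd : topologicalKrullDim ({p} : Set X) ≤ 0 := topologicalKrullDim_zero_of_discreteTopology ({p} : Set X)
  obtain ⟨e⟩ := exists_equiv_pi (k := k) hp hsupp hd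
  rw [e.finrank_eq]
  let P : ((y : ({p} : Set X)) → KStalk k Q y.1) →ₗ[k] KStalk k Q p := LinearMap.proj (⟨p, rfl⟩ : ({p} : Set X))
  have hP : Function.Bijective P := by
    refine ⟨fun a b h => funext fun y => ?_, fun z => ⟨fun y => (Subsingleton.elim (⟨p, rfl⟩ : ({p} : Set X)) y) ▸ z, ?_⟩⟩
    · obtain rfl : y = ⟨p, rfl⟩ := Subsingleton.elim _ _
      exact h
    · rfl
  rw [(LinearEquiv.ofBijective P hP).finrank_eq]
  let q := stalkLin (cokernel.π (ClSub.idealModι Z)) p
  have hq : ∀ r : X.presheaf.stalk p, q (r • ParaFLib.oneG p) = 0 ↔ r ∈ Ideal.span {π ^ n} := fun r => by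
    rw [← hZp, ← HilbObsLib.mem_range_idealModι Z p r]
    exact DevLib.coker_exact (ClSub.idealModι Z) p _
  let v : Fin n → KStalk k Q p := fun i => (q ((π ^ (i : ℕ)) • ParaFLib.oneG p) : Q.presheaf.stalk p)
  have hlc : ∀ c : Fin n → k, Fintype.linearCombination k v c =
      (q ((∑ i : Fin n, cst p (c i) * π ^ (i : ℕ)) • ParaFLib.oneG p) : Q.presheaf.stalk p) := fun c => by
    rw [Fintype.linearCombination_apply, Finset.sum_smul, map_sum]
    refine Finset.sum_congr rfl fun i _ => ?_
    rw [mul_smul, map_smul]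
    rfl
  classical
  have hbij : Function.Bijective (Fintype.linearCombination k v) := by
    constructor
    · rw [injective_iff_map_eq_zero]
      intro c hc
      rw [hlc, hq] at hc
      by_contra hne
      obtain ⟨i, hi⟩ : ∃ i, c i ≠ 0 := Function.ne_iff.1 hne
      let T := Finset.univ.filter fun i => c i ≠ 0
      have hT : T.Nonempty := ⟨i, by simp [T, hi]⟩
      set i₀ := T.min' hT
      have hi₀ : c i₀ ≠ 0 := (Finset.mem_filter.1 (T.min'_mem hT)).2
      have hlt : ∀ j, j < i₀ → c j = 0 := fun j hj => by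
        by_contra h
        exact (T.min'_le j (by simp [T, h])).not_gt hj
      have hmem : cst p (c i₀) * π ^ (i₀ : ℕ) ∈ Ideal.span {π ^ ((i₀ : ℕ) + 1)} := by
        have h1 : ∑ j ∈ Finset.univ.erase i₀, cst p (c j) * π ^ (j : ℕ) ∈ Ideal.span {π ^ ((i₀ : ℕ) + 1)} := by
          refine Submodule.sum_mem _ fun j hj => ?_
          rcases lt_trichotomy j i₀ with h | h | h
          · rw [hlt j h, map_zero, zero_mul]; exact zero_mem _
          · exact absurd h (Finset.ne_of_mem_erase hj)
          · exact Ideal.mul_mem_left _ _ (Ideal.mem_span_singleton.2 (pow_dvd_pow π (by exact_mod_cast h)))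
        have h2 := Ideal.span_singleton_le_span_singleton.2 (pow_dvd_pow π (show (i₀ : ℕ) + 1 ≤ n from i₀.2)) hc
        rw [← Finset.add_sum_erase _ _ (Finset.mem_univ i₀)] at h2
        simpa using sub_mem h2 h1
      obtain ⟨a, ha⟩ := Ideal.mem_span_singleton.1 hmem
      rw [pow_succ, mul_assoc, mul_comm] at ha
      have hu : cst p (c i₀) = π * a := mul_left_cancel₀ (pow_ne_zero _ hπ0) ha
      have hm : cst p (c i₀) ∈ maximalIdeal (X.presheaf.stalk p) := by
        rw [hπ, hu]; exact Ideal.mul_mem_right _ _ (Ideal.mem_span_singleton_self π)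
      exact hm ((isUnit_iff_ne_zero.2 hi₀).map (cst p))
    · intro z
      obtain ⟨w, hw⟩ := DevLib.coker_surjective (ClSub.idealModι Z) p z
      obtain ⟨r, rfl⟩ := (ParaFLib.bijective_oneG p).2 w
      have key : ∀ m, ∀ r : X.presheaf.stalk p, ∃ c : Fin m → k,
          r - ∑ i : Fin m, cst p (c i) * π ^ (i : ℕ) ∈ Ideal.span {π ^ m} := by
        intro m
        induction m with
        | zero => exact fun r => ⟨fun i => 0, by simp⟩
        | succ m ih =>
          intro r
          obtain ⟨c, hc⟩ := exists_cst_sub_mem hrat r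
          rw [hπ, Ideal.mem_span_singleton] at hc
          obtain ⟨s, hs⟩ := hc
          obtain ⟨c', hc'⟩ := ih s
          obtain ⟨a, ha⟩ := Ideal.mem_span_singleton.1 hc'
          refine ⟨Fin.cons c c', Ideal.mem_span_singleton.2 ⟨a, ?_⟩⟩
          rw [Fin.sum_univ_succ]
          simp only [Fin.cons_zero, Fin.cons_succ, Fin.val_zero, pow_zero, mul_one, Fin.val_succ, pow_succ]
          have : ∑ i : Fin m, cst p (c' i) * (π ^ (i : ℕ) * π) = π * ∑ i : Fin m, cst p (c' i) * π ^ (i : ℕ) := by
            rw [Finset.mul_sum]; exact Finset.sum_congr rfl fun i _ => by ring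
          rw [this]
          linear_combination hs + π * ha
      obtain ⟨c, hc⟩ := key n r
      refine ⟨c, ?_⟩
      rw [hlc, ← hw]
      have h0 := (hq _).2 hc
      rw [sub_smul, map_sub, sub_eq_zero] at h0
      exact h0.symm
  rw [← (LinearEquiv.ofBijective _ hbij).finrank_eq, Module.finrank_fin_fun]

include hp hrat in
/-- An integral curve with a smooth rational point has only constant functions. -/
theorem h0_eq_one_of_rat (hdim : topologicalKrullDim X = 1) (hreg : IsRegularLocalRing (X.presheaf.stalk p)) :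
    Module.finrank k (Coh.HH X (Coh.structureModule X) 0) = 1 := by
  haveI := EulerIneqLib.isNoetherian_proper (X := X) k
  haveI := EulerIneqLib.finite_HH (k := k) (DevLib.isCoh_structureModule X) 0
  haveI : Nontrivial (Coh.HH X (Coh.structureModule X) 0) := by
    haveI : Nontrivial Γ(Coh.structureModule X, ⊤) := inferInstanceAs (Nontrivial Γ(X, ⊤))
    exact (secOf (Coh.structureModule X)).toEquiv.nontrivial
  refine le_antisymm ?_ Module.finrank_pos
  let J := Scheme.IdealSheafData.vanishingIdeal (⟨{p}, hp⟩ : Closeds X) ^ 1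
  haveI := EulerIneqLib.finite_HH (k := k) (IntLib.isCoh_quotMod J) 0
  refine le_of_le_of_eq (LinearMap.finrank_le_finrank_of_injective (f := hMap (k := k) (ClSub.toSubscheme J) 0) ?_)
    (finrank_quot_pow hp hrat hdim hreg 1)
  refine (injective_iff_map_eq_zero _).2 fun c hc => (secOf (Coh.structureModule X)).injective ?_
  rw [map_zero]
  have h1 : (ClSub.toSubscheme J).app ⊤ (secOf _ c) = 0 := (secOf_hMap (k := k) _ c).symm.trans (by rw [hc, map_zero])
  let a : Γ(X, ⊤) := secOf (Coh.structureModule X) c
  rcases ZeroConnLib.isUnit_or_isNilpotent (X := X) k a with hu | hn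
  swap
  · exact hn.eq_zero
  exfalso
  let g := X.presheaf.germ ⊤ p trivial a
  have h2 : stalkLin (ClSub.toSubscheme J) p (g • ParaFLib.oneG p) = 0 := by
    have : g • ParaFLib.oneG p = (Coh.structureModule X).presheaf.germ ⊤ p trivial (secOf _ c) := by
      rw [ParaFLib.oneG, ← ParaFLib.germ_smul']
      exact congrArg _ (mul_one a)
    rw [this, stalkLin_germ, h1, map_zero]
  obtain ⟨w, hw⟩ := HilbObsLib.stalk_kernel_ι_exists (ClSub.toSubscheme J) p h2
  have hmem := (HilbObsLib.mem_range_idealModι J p g).1 ⟨w, hw⟩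
  rw [InfNbhdLib.stalkIdeal_pow, pow_one, (CurveFF.stalkIdeal_point hp).1] at hmem
  exact hmem (hu.map (X.presheaf.germ ⊤ p trivial).hom)

end Groth.Agent.SingRRLib
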