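import Groth.Agent.SingRRLib.Core
import Groth.Agent.AmpleEmb.SectionsGe

/-!
# Sections of modules of degree at least `2g` on proper integral curves
-/

set_option autoImplicit false
set_option backward.isDefEq.respectTransparency false
set_option backward.isDefEq.respectTransparency.types false
set_option linter.style.haveILetI false

universe u

open CategoryTheory CategoryTheory.Limits AlgebraicGeometry TopologicalSpace Opposite
open Groth.Agent.PullbackMod Groth.Agent.DCohLib Groth.Agent.CurveLib
open scoped TensorProduct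

noncomputable section

namespace Groth.Agent.SingRRLib

variable {k : Type u} [Field k] {X : Scheme.{u}} [X.Over (Spec (CommRingCat.of k))]
  [IsProper (X ↘ Spec (CommRingCat.of k))] [IsIntegral X]

include k in
/-- A generator whose multiples by the ideal lie in the image of `I ⊗ L`. -/
theorem exists_gen_twist (Z : X.IdealSheafData) {L : X.Modules} (hL : PicF.IsInvertible L) (x : X) :
    ∃ g : L.presheaf.stalk x, Function.Bijective (fun r : X.presheaf.stalk x => r • g) ∧
      ∀ r ∈ IntMult.stalkIdeal Z x, ∃ z, stalkLin (twistι Z L) x z = r • g := by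
  obtain ⟨e, he⟩ := ParaFLib.exists_stalk_gen hL x
  have hb : Function.Bijective fun r : X.presheaf.stalk x => r •
      stalkTensor x (Coh.structureModule X) L (ParaFLib.oneG x ⊗ₜ[X.presheaf.stalk x] e) :=
    AmpleLib.bijective_stalkTensor (ParaFLib.bijective_oneG x) he
  have hi : Function.Bijective (stalkLin (tmodUnit L).hom x) := (isIso_iff_stalk (tmodUnit L).hom).1 inferInstance x
  refine ⟨stalkLin (tmodUnit L).hom x (stalkTensor x (Coh.structureModule X) L (ParaFLib.oneG x ⊗ₜ[X.presheaf.stalk x] e)), ?_,
    fun r hr => ?_⟩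
  · have h : (fun r : X.presheaf.stalk x => r •
        stalkLin (tmodUnit L).hom x (stalkTensor x (Coh.structureModule X) L (ParaFLib.oneG x ⊗ₜ[X.presheaf.stalk x] e))) =
        stalkLin (tmodUnit L).hom x ∘ fun r : X.presheaf.stalk x => r •
          stalkTensor x (Coh.structureModule X) L (ParaFLib.oneG x ⊗ₜ[X.presheaf.stalk x] e) :=
      funext fun r => (map_smul _ r _).symm
    rw [h]
    exact hi.comp hb
  · obtain ⟨n, hn⟩ := (HilbObsLib.mem_range_idealModι Z x r).2 hr
    refine ⟨stalkTensor x (ClSub.idealMod Z) L (n ⊗ₜ[X.presheaf.stalk x] e), ?_⟩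
    rw [twistι, stalkLin_comp, LinearMap.comp_apply, stalkTensor_natural_left, LinearMap.rTensor_tmul, hn,
      ← TensorProduct.smul_tmul', map_smul, map_smul]

include k in
omit [IsProper (X ↘ Spec (CommRingCat.of k))] in
/-- A nonzero point subscheme has sections. -/
theorem finrank_quot_point_pos [IsProper (X ↘ Spec (CommRingCat.of k))] {x : X} (hx : IsClosed ({x} : Set X)) :
    0 < Module.finrank k (Coh.HH X (ClSub.quotMod (Scheme.IdealSheafData.vanishingIdeal (⟨{x}, hx⟩ : Closeds X))) 0) := by
  haveI := EulerIneqLib.isNoetherian_proper (X := X) k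
  let J := Scheme.IdealSheafData.vanishingIdeal (⟨{x}, hx⟩ : Closeds X)
  haveI := EulerIneqLib.finite_HH (k := k) (IntLib.isCoh_quotMod J) 0
  by_contra h
  haveI : Subsingleton (Coh.HH X (ClSub.quotMod J) 0) :=
    (Module.finrank_eq_zero_iff_of_free k _).1 (Nat.eq_zero_of_not_pos h)
  have hsupp : (J.support : Set X) = {x} := by rw [Scheme.IdealSheafData.coe_support_vanishingIdeal]; rfl
  have hd : topologicalKrullDim (J.support : Set X) ≤ 0 := by
    rw [hsupp]
    exact topologicalKrullDim_zero_of_discreteTopology ({x} : Set X)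
  haveI := subsingleton_stalk_of_H0 J.support.isClosed hd (ClSub.quotMod J) (IntLib.support_quotMod_subset J) x
  haveI : Subsingleton ((cokernel (ClSub.idealModι J)).presheaf.stalk x) :=
    (((isIso_iff_stalk (cokerIdealIso J).hom).1 inferInstance x).1).subsingleton
  haveI := mono_idealModι J
  have h1 : (1 : X.presheaf.stalk x) ∈ IntMult.stalkIdeal J x := by
    refine (HilbObsLib.mem_range_idealModι J x 1).1 ?_
    rw [one_smul]
    exact (DevLib.coker_exact (ClSub.idealModι J) x (ParaFLib.oneG x)).1 (Subsingleton.elim _ _)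
  rw [(CurveFF.stalkIdeal_point hx).1] at h1
  exact h1 isUnit_one

include k in
/-- A module of degree at least `2g` has a section generating at any closed point. -/
theorem exists_genLocus_closed (hdim : topologicalKrullDim X ≤ 1)
    (h0 : Module.finrank k (Coh.HH X (Coh.structureModule X) 0) = 1) {L : X.Modules} (hL : PicF.IsInvertible L)
    (hdeg : 2 * (Curv2.genus k X : ℤ) ≤ Curv2.deg k X L 1) {x : X} (hx : IsClosed ({x} : Set X)) :
    ∃ s : Coh.structureModule X ⟶ L, x ∈ CohB1.genLocus L s := by
  haveI := EulerIneqLib.isNoetherian_proper (X := X) k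
  let J := Scheme.IdealSheafData.vanishingIdeal (⟨{x}, hx⟩ : Closeds X)
  have hsupp : (J.support : Set X) = {x} := by rw [Scheme.IdealSheafData.coe_support_vanishingIdeal]; rfl
  have hd : topologicalKrullDim (J.support : Set X) ≤ 0 := by
    rw [hsupp]
    exact topologicalKrullDim_zero_of_discreteTopology ({x} : Set X)
  obtain ⟨σ, hσ⟩ := exists_section_notMem k hdim h0 hL J hd (finrank_quot_point_pos hx) hdeg
  refine ⟨secHom L σ, by_contra fun hn => hσ ?_⟩
  haveI := mono_twistι J hL
  have hstalk : ∀ y, ∃ z, stalkLin (twistι J L) y z = L.presheaf.germ ⊤ y trivial σ := by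
    intro y
    obtain ⟨g, hg, hg'⟩ := exists_gen_twist (k := k) J hL y
    obtain ⟨r, hr⟩ := hg.2 (L.presheaf.germ ⊤ y trivial σ)
    rw [← hr]
    refine hg' r ?_
    obtain ⟨h1, h2⟩ := CurveFF.stalkIdeal_point hx
    by_cases hy : y = x
    · subst hy
      rw [h1]
      intro hu
      refine hn ?_
      rw [AmpleLib.mem_genLocus_iff hL, AmpleLib.sec_secHom, ← hr]
      exact (AmpleLib.bijective_smul_iff hg r).2 hu
    · rw [h2 y hy]
      trivial
  have hS := DevLib.cokerSeq_shortExact (twistι J L)
  have hzero : (cokernel.π (twistι J L)).app ⊤ σ = 0 := by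
    refine TopCat.Presheaf.section_ext
      (⟨(cokernel (twistι J L)).presheaf, (cokernel (twistι J L)).isSheaf⟩ : TopCat.Sheaf Ab X) ⊤ _ _ fun y hy => ?_
    show (cokernel (twistι J L)).presheaf.germ ⊤ y trivial _ = (cokernel (twistι J L)).presheaf.germ ⊤ y trivial 0
    rw [map_zero, ← stalkLin_germ]
    exact (DevLib.coker_exact (twistι J L) y _).2 (hstalk y)
  have hc : hMap (k := k) (DevLib.cokerSeq (twistι J L)).g 0 ((secOf L).symm σ) = 0 := by
    refine (secOf (cokernel (twistι J L))).injective ?_
    rw [map_zero]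
    refine (secOf_hMap (k := k) _ _).trans ?_
    exact (congrArg ((cokernel.π (twistι J L)).app ⊤) ((secOf L).apply_symm_apply σ)).trans hzero
  obtain ⟨b, hb⟩ := (range_hMap_f (k := k) hS 0).ge (LinearMap.mem_ker.2 hc)
  refine ⟨secOf _ b, ?_⟩
  exact (secOf_hMap (k := k) (twistι J L) b).symm.trans
    ((congrArg (secOf L) hb).trans ((secOf L).apply_symm_apply σ))

include k in
/-- Modules of degree at least `2g` are globally generated. -/
theorem isGloballyGenerated_of_deg (hdim : topologicalKrullDim X ≤ 1)
    (h0 : Module.finrank k (Coh.HH X (Coh.structureModule X) 0) = 1) {L : X.Modules} (hL : PicF.IsInvertible L)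
    (hdeg : 2 * (Curv2.genus k X : ℤ) ≤ Curv2.deg k X L 1) : Curv2.IsGloballyGenerated L := by
  haveI := EulerIneqLib.isNoetherian_proper (X := X) k
  refine AmpleEmb.isGloballyGenerated_of_genLocus hL (fun s : (Coh.structureModule X ⟶ L) => s) fun y => ?_
  obtain ⟨x, hxy, hxc⟩ := IsClosed.exists_closed_singleton (isClosed_closure (s := ({y} : Set X))) ⟨y, subset_closure rfl⟩
  obtain ⟨s, hs⟩ := exists_genLocus_closed hdim h0 hL hdeg hxc
  exact ⟨s, (specializes_iff_mem_closure.2 hxy).mem_open (CohB1.genLocus L s).2 hs⟩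

end Groth.Agent.SingRRLib
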