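import Groth.Agent.SingRRLib.Sections
import Groth.Agent.CurveP1Lib.PointIdeal
import Groth.Agent.AVLib.AmpleCrit
import Groth.Agent.S8914

/-!
# Twisting down by general points
-/

set_option autoImplicit false
set_option backward.isDefEq.respectTransparency false
set_option backward.isDefEq.respectTransparency.types false
set_option linter.style.haveILetI false

universe u

open CategoryTheory CategoryTheory.Limits AlgebraicGeometry TopologicalSpace Opposite
open Groth.Agent.PullbackMod Groth.Agent.DCohLib Groth.Agent.CurveLib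

noncomputable section

namespace Groth.Agent.SingRRLib

variable (k : Type u) [Field k] [IsAlgClosed k] {X : Scheme.{u}} [X.Over (Spec (CommRingCat.of k))]
  [IsProper (X ↘ Spec (CommRingCat.of k))] [IsIntegral X] (hdim : topologicalKrullDim X = 1)

include k hdim in
/-- The smooth closed points of a nonempty open set have invertible ideals of degree `-1`. -/
theorem exists_point_mem (W : X.Opens) (hW : (W : Set X).Nonempty) :
    ∃ (x : X) (hx : IsClosed ({x} : Set X)), x ∈ W ∧ ∃ L : X.Modules, PicF.IsInvertible L ∧ Curv2.deg k X L 1 = 1 ∧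
      ClSub.IsInverseOf L (ClSub.idealMod (Scheme.IdealSheafData.vanishingIdeal (⟨{x}, hx⟩ : Closeds X))) ∧
      PicF.IsInvertible (ClSub.idealMod (Scheme.IdealSheafData.vanishingIdeal (⟨{x}, hx⟩ : Closeds X))) := by
  let pX := X ↘ Spec (CommRingCat.of k)
  haveI := EulerIneqLib.isNoetherian_proper (X := X) k
  haveI : JacobsonSpace X := LocallyOfFiniteType.jacobsonSpace pX
  let Sm := pX.smoothLocus
  obtain ⟨y, hy⟩ := (pX.dense_smoothLocus_of_perfectField).inter_open_nonempty _ W.2 hW
  obtain ⟨x, hxc, hxW⟩ := nonempty_inter_closedPoints (Z := ((W ⊓ Sm : X.Opens) : Set X)) ⟨y, hy.1, hy.2⟩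
    (W ⊓ Sm).2.isLocallyClosed |> fun ⟨x, hx⟩ => (⟨x, hx.2, hx.1⟩ : ∃ x, x ∈ closedPoints X ∧ x ∈ ((W ⊓ Sm : X.Opens) : Set X))
  rw [mem_closedPoints_iff] at hxc
  refine ⟨x, hxc, hxW.1, ?_⟩
  haveI : Smooth (Sm.ι ≫ pX) := by
    rw [← Scheme.Hom.smoothLocus_eq_top_iff, ← Scheme.Hom.preimage_smoothLocus_eq]
    exact Scheme.Opens.ι_preimage_self _
  letI : (Sm : Scheme.{u}).Over (Spec (CommRingCat.of k)) := ⟨Sm.ι ≫ pX⟩
  haveI : Smooth ((Sm : Scheme.{u}) ↘ Spec (CommRingCat.of k)) := ‹Smooth (Sm.ι ≫ pX)›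
  haveI hr : IsRegularLocalRing (X.presheaf.stalk x) := by
    haveI := isRegularLocalRing_stalk_of_smooth (k := k) (X := (Sm : Scheme.{u})) ⟨x, hxW.2⟩
    exact IsRegularLocalRing.of_ringEquiv (Sm.stalkIso ⟨x, hxW.2⟩).commRingCatIsoToRingEquiv
  have hd : ringKrullDim (X.presheaf.stalk x) ≤ 1 := by
    rw [ringKrullDim_stalk_eq_coheight]
    exact (Order.coheight_le_krullDim x).trans (by rw [← ASp.topologicalKrullDim_eq_krullDim]; exact hdim.le)
  haveI := VBLib.isPrincipalIdealRing_of_regular (X.presheaf.stalk x) hd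
  obtain ⟨⟨g, hg⟩⟩ : Nonempty {g : X.presheaf.stalk x //
      IsLocalRing.maximalIdeal (X.presheaf.stalk x) = Ideal.span {g}} :=
    ⟨⟨_, (Ideal.span_singleton_generator _).symm⟩⟩
  have hg0 : g ≠ 0 := by
    rintro rfl
    rw [Ideal.span_singleton_zero] at hg
    haveI : IsField (X.presheaf.stalk x) := (IsLocalRing.isField_iff_maximalIdeal_eq).2 hg
    have h1 : ringKrullDim (X.presheaf.stalk x) = 0 := ringKrullDim_eq_zero_of_isField ‹_›
    rw [ringKrullDim_stalk_eq_coheight] at h1
    have hmax : IsMax x := Order.coheight_eq_zero.1 (by exact_mod_cast h1)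
    have hgen : genericPoint X ≤ x := hmax (Scheme.le_iff_specializes.2 (genericPoint_specializes x))
    have he : genericPoint X = x :=
      ((genericPoint_specializes x).antisymm (Scheme.le_iff_specializes.1 hgen)).eq
    have huniv : (Set.univ : Set X) ⊆ {x} := by
      rw [← (genericPoint_spec X).def, he]
      exact hxc.closure_eq.le
    haveI : Subsingleton X := ⟨fun a b => (huniv (Set.mem_univ a)).trans (huniv (Set.mem_univ b)).symm⟩
    have h2 : topologicalKrullDim X ≤ 0 := topologicalKrullDim_zero_of_discreteTopology X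
    rw [hdim] at h2
    exact absurd h2 (by norm_num)
  haveI : LocallyOfFiniteType (Over.mk pX).hom := inferInstanceAs (LocallyOfFiniteType pX)
  obtain ⟨q, hq⟩ := AVLib.exists_ratPt (Z := Over.mk pX) hxc
  have hqs : q.left ≫ pX = 𝟙 _ := Over.w q
  haveI : Subsingleton ↥(Spec (CommRingCat.of k)) := inferInstanceAs (Subsingleton (PrimeSpectrum k))
  obtain ⟨L, hL, hd1, hinv, hJ⟩ := CurveP1Lib.exists_deg_one hdim q.left hqs x
    (by rintro _ ⟨z, rfl⟩; rw [Subsingleton.elim z (IsLocalRing.closedPoint k)]; exact hq) hxc ⟨g, hg0, hg⟩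
  exact ⟨L, hL, hd1, hinv, (S8914.result _).2 hJ⟩

include k in
omit [IsAlgClosed k] in
/-- Sections of `I ⊗ L` vanish on the subscheme. -/
theorem notMem_genLocus_twist {Z : X.IdealSheafData} {L : X.Modules} (hL : PicF.IsInvertible L) {x : X}
    (hx : IntMult.stalkIdeal Z x ≤ IsLocalRing.maximalIdeal (X.presheaf.stalk x))
    (b : Γ(tmod (ClSub.idealMod Z) L, ⊤)) : x ∉ CohB1.genLocus L (secHom L ((twistι Z L).app ⊤ b)) := by
  intro hmem
  rw [AmpleLib.mem_genLocus_iff hL, AmpleLib.sec_secHom, ← stalkLin_germ] at hmem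
  obtain ⟨e, he⟩ := ParaFLib.exists_stalk_gen hL x
  set z := (tmod (ClSub.idealMod Z) L).presheaf.germ ⊤ x trivial b
  have key : ∀ z, stalkLin (twistι Z L) x z ∈
      (IsLocalRing.maximalIdeal (X.presheaf.stalk x)) • (⊤ : Submodule (X.presheaf.stalk x) (L.presheaf.stalk x)) := by
    intro z
    obtain ⟨z, rfl⟩ := (stalkTensor x (ClSub.idealMod Z) L).surjective z
    induction z with
    | zero => rw [map_zero, map_zero]; exact zero_mem _
    | add a b ha hb => rw [map_add, map_add]; exact add_mem ha hb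
    | tmul n w =>
      obtain ⟨r, hr⟩ := (ParaFLib.bijective_oneG x).2 (stalkLin (ClSub.idealModι Z) x n)
      have hrm := hx ((HilbObsLib.mem_range_idealModι Z x r).1 ⟨n, hr.symm⟩)
      change r • ParaFLib.oneG x = _ at hr
      rw [twistι, stalkLin_comp, LinearMap.comp_apply, stalkTensor_natural_left, LinearMap.rTensor_tmul, ← hr,
        ← TensorProduct.smul_tmul', map_smul, map_smul]
      exact Submodule.smul_mem_smul hrm trivial
  obtain ⟨r, hr⟩ := he.2 (stalkLin (twistι Z L) x z)
  have htop : (⊤ : Submodule (X.presheaf.stalk x) (L.presheaf.stalk x)) = Submodule.span (X.presheaf.stalk x) {e} :=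
    (eq_top_iff.2 fun w _ => Submodule.mem_span_singleton.2 (he.2 w)).symm
  have h2 := key z
  rw [← hr] at h2 hmem
  rw [htop, Submodule.mem_smul_span_singleton] at h2
  obtain ⟨r', hr', he'⟩ := h2
  rw [he.1 he'] at hr'
  exact hr' ((AmpleLib.bijective_smul_iff he r).1 hmem)

omit [IsProper (X ↘ Spec (CommRingCat.of k))] [X.Over (Spec (CommRingCat.of k))] [Field k] [IsAlgClosed k] in
/-- A nonzero section generates at the generic point. -/
theorem genericPoint_mem_genLocus {L : X.Modules} (hL : PicF.IsInvertible L) {s : Coh.structureModule X ⟶ L}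
    (hs : s ≠ 0) : genericPoint X ∈ CohB1.genLocus L s := by
  rw [AmpleLib.mem_genLocus_iff hL]
  have h : (fun r : X.presheaf.stalk (genericPoint X) => r •
      L.presheaf.germ ⊤ (genericPoint X) trivial (AmpleLib.sec s)) =
      stalkLin s (genericPoint X) ∘ fun r : X.presheaf.stalk (genericPoint X) => r • ParaFLib.oneG (genericPoint X) :=
    funext fun r => by
      rw [Function.comp_apply, map_smul]
      congr 1
      conv_rhs => rw [← AmpleLib.secHom_sec s]
      exact (stalkLin_secHom _ _).symm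
  rw [h]
  exact (bijective_stalkLin_generic ParaFLib.isInvertible_structureModule hL hs).comp
    (ParaFLib.bijective_oneG (genericPoint X))

omit [IsAlgClosed k] [IsIntegral X] in
/-- A subobject missing a section has fewer sections. -/
theorem finrank_lt_of_notMem {M L : X.Modules} (ι : M ⟶ L) [Mono ι] (hL : Coh.IsCoh L) {c : Coh.HH X L 0}
    (h : ∀ b : Γ(M, ⊤), ι.app ⊤ b ≠ secOf L c) :
    Module.finrank k (Coh.HH X M 0) < Module.finrank k (Coh.HH X L 0) := by
  haveI := EulerIneqLib.isNoetherian_proper (X := X) k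
  haveI := EulerIneqLib.finite_HH (k := k) hL 0
  haveI : FiniteDimensional k (Coh.HH X (DevLib.cokerSeq ι).X₂ 0) := EulerIneqLib.finite_HH (k := k) hL 0
  have hS := DevLib.cokerSeq_shortExact ι
  have hinj : Function.Injective (hMap (k := k) (DevLib.cokerSeq ι).f 0) := hMap_f_zero_injective (k := k) hS
  refine lt_of_eq_of_lt (LinearMap.finrank_range_of_inj hinj).symm ?_
  refine Submodule.finrank_lt fun htop => ?_
  change LinearMap.range (hMap (k := k) ι 0) = ⊤ at htop
  obtain ⟨b, hb⟩ := (LinearMap.range_eq_top.1 htop) c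
  exact h (secOf M b) (by rw [← secOf_hMap (k := k), hb])

include hdim in
/-- Twisting down by a general point keeps `H¹ = 0` and drops `h⁰` by one. -/
theorem exists_twist_down {L : X.Modules} (hL : PicF.IsInvertible L) (h1 : Subsingleton (Coh.HH X L 1)) {n : ℕ}
    (hn : Module.finrank k (Coh.HH X L 0) = n + 1) :
    ∃ L' : X.Modules, PicF.IsInvertible L' ∧ Subsingleton (Coh.HH X L' 1) ∧ Module.finrank k (Coh.HH X L' 0) = n := by
  haveI := EulerIneqLib.isNoetherian_proper (X := X) k
  haveI : Nontrivial (Coh.HH X L 0) := Module.nontrivial_of_finrank_pos (R := k) (by omega)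
  obtain ⟨c, hc⟩ := exists_ne (0 : Coh.HH X L 0)
  let s := secHom L (secOf L c)
  have hs : s ≠ 0 := secHom_secOf_ne_zero L hc
  have hne : (CohB1.genLocus L s : Set X).Nonempty := ⟨genericPoint X, genericPoint_mem_genLocus hL hs⟩
  obtain ⟨x, hx, hxs, M, hM, hdM, ⟨eM⟩, hI⟩ := exists_point_mem k hdim _ hne
  let J := Scheme.IdealSheafData.vanishingIdeal (⟨{x}, hx⟩ : Closeds X)
  have hsupp : (J.support : Set X) = {x} := by rw [Scheme.IdealSheafData.coe_support_vanishingIdeal]; rfl
  have hd : topologicalKrullDim (J.support : Set X) ≤ 0 := by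
    rw [hsupp]
    exact topologicalKrullDim_zero_of_discreteTopology ({x} : Set X)
  refine ⟨CohB1.tensorMod (ClSub.idealMod J) L, AmpleLib.isInvertible_tensor hI hL, ?_⟩
  haveI := mono_twistι J hL
  have hIL := isCoh_tmod (RefOne.isCoh_idealMod J) (isCoh_of_isInvertible hL)
  haveI := EulerIneqLib.finite_HH (k := k) hIL 1
  have h3 : Module.finrank k (Coh.HH X (tmod (ClSub.idealMod J) L) 0) < Module.finrank k (Coh.HH X L 0) :=
    finrank_lt_of_notMem k (twistι J L) (isCoh_of_isInvertible hL) (c := c) fun b hb =>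
      notMem_genLocus_twist k hL (CurveFF.stalkIdeal_point hx).1.le b (hb ▸ hxs)
  have h0 := CurveLib.finrank_H0_structure (k := k) (X := X)
  have h4 : Curv2.euler k X (tmod (ClSub.idealMod J) L) = Curv2.euler k X L - 1 := by
    have e1 := euler_eq_deg k hdim.le h0 (tmod (ClSub.idealMod J) L)
    have e2 := euler_eq_deg k hdim.le h0 L
    have e3 := deg_tensor_add (k := k) hdim.le hI hL
    have e4 := deg_tensor_add (k := k) hdim.le hM hI
    rw [CurveLib.deg_iso (k := k) eM, CurveLib.deg_structureModule] at e4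
    change Curv2.deg k X (tmod (ClSub.idealMod J) L) 1 = _ at e3
    omega
  rw [euler_eq_sub (k := k) hdim.le, euler_eq_sub (k := k) hdim.le,
    Module.finrank_zero_of_subsingleton (R := k) (M := Coh.HH X L 1)] at h4
  have h5 : Module.finrank k (Coh.HH X (tmod (ClSub.idealMod J) L) 1) = 0 := by omega
  show Subsingleton (Coh.HH X (tmod (ClSub.idealMod J) L) 1) ∧
    Module.finrank k (Coh.HH X (tmod (ClSub.idealMod J) L) 0) = n
  exact ⟨(Module.finrank_eq_zero_iff_of_free k _).1 h5,
    show Module.finrank k (Coh.HH X (tmod (ClSub.idealMod J) L) 0) = n by omega⟩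

include hdim in
/-- Line bundles with vanishing `H¹` and any number `≤ g + 1` of sections. -/
theorem exists_nonspecial : ∀ n, n ≤ Curv2.genus k X + 1 →
    ∃ L : X.Modules, PicF.IsInvertible L ∧ Subsingleton (Coh.HH X L 1) ∧ Module.finrank k (Coh.HH X L 0) = n := by
  haveI := EulerIneqLib.isNoetherian_proper (X := X) k
  have h0 := CurveLib.finrank_H0_structure (k := k) (X := X)
  intro n hn
  induction hn using Nat.decreasingInduction with
  | self =>
    obtain ⟨x, hx, -, P, hP, hdP, -, -⟩ := exists_point_mem k hdim ⊤ Set.univ_nonempty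
    let N := CohB1.tensorPow P (2 * Curv2.genus k X)
    have hN := AmpleLib.isInvertible_tensorPow hP (2 * Curv2.genus k X)
    have hdN : ∀ m : ℕ, Curv2.deg k X (CohB1.tensorPow P m) 1 = m := by
      intro m
      induction m with
      | zero => exact CurveLib.deg_structureModule
      | succ m ih =>
        refine (deg_tensor_add (k := k) hdim.le (AmpleLib.isInvertible_tensorPow hP m) hP).trans ?_
        rw [ih, hdP]
        push_cast
        ring
    haveI h1 := subsingleton_H1_of_deg k hdim.le h0 hN (by rw [hdN]; omega)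
    refine ⟨N, hN, h1, ?_⟩
    have e := euler_eq_deg k hdim.le h0 N
    rw [euler_eq_sub (k := k) hdim.le, hdN, Module.finrank_zero_of_subsingleton (R := k) (M := Coh.HH X N 1)] at e
    omega
  | of_succ m _ ih =>
    obtain ⟨L, hL, h1, hm⟩ := ih
    exact exists_twist_down k hdim hL h1 hm

end Groth.Agent.SingRRLib
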