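import Groth.Agent.SingRRLib.IdealPt
import Groth.Agent.SingRRLib.SmoothPts
import Groth.Agent.ShStabLib.Simple
import Groth.Agent.CurveLib.StalkDim

/-!
# Separation by sections of modules of degree above `2g` on proper integral curves
-/

set_option autoImplicit false
set_option backward.isDefEq.respectTransparency false
set_option backward.isDefEq.respectTransparency.types false
set_option linter.style.haveILetI false
set_option maxHeartbeats 1000000

universe u

open CategoryTheory CategoryTheory.Limits AlgebraicGeometry TopologicalSpace Opposite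
open Groth.Agent.PullbackMod Groth.Agent.DCohLib Groth.Agent.CurveLib
open scoped TensorProduct

noncomputable section

namespace Groth.Agent.SingRRLib

variable (k : Type u) [Field k] [IsAlgClosed k] {X : Scheme.{u}} [X.Over (Spec (CommRingCat.of k))]
  [IsProper (X ↘ Spec (CommRingCat.of k))] [IsIntegral X]

theorem dim_le_zero_of_subset {C : Set X} {x : X} (h : C ⊆ {x}) : topologicalKrullDim C ≤ 0 :=
  (Topology.IsEmbedding.inclusion h).isInducing.topologicalKrullDim_le.trans
    (topologicalKrullDim_zero_of_discreteTopology ({x} : Set X))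

omit [IsAlgClosed k] [IsIntegral X] in
/-- A finitely supported module has all its germs from sections. -/
theorem finrank_le_of_surj {Q : X.Modules} {x : X} (hx : IsClosed ({x} : Set X))
    (hQ : CohB1.support Q ⊆ {x}) {n : ℕ} (v : Fin n → KStalk k Q x)
    (hv : ∀ z : KStalk k Q x, ∃ c : Fin n → k, z = ∑ i, c i • v i) :
    Module.finrank k (Coh.HH X Q 0) ≤ n := by
  classical
  have hd : topologicalKrullDim ({x} : Set X) ≤ 0 := topologicalKrullDim_zero_of_discreteTopology ({x} : Set X)
  obtain ⟨e⟩ := exists_equiv_pi (k := k) hx hQ hd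
  let p : ((y : ({x} : Set X)) → KStalk k Q y.1) →ₗ[k] KStalk k Q x := LinearMap.proj (⟨x, rfl⟩ : ({x} : Set X))
  have hp : Function.Bijective p := by
    refine ⟨fun a b h => funext fun y => ?_, fun z => ⟨fun y => (Subsingleton.elim (⟨x, rfl⟩ : ({x} : Set X)) y) ▸ z, ?_⟩⟩
    · obtain rfl : y = ⟨x, rfl⟩ := Subsingleton.elim _ _
      exact h
    · rfl
  rw [e.finrank_eq, (LinearEquiv.ofBijective p hp).finrank_eq]
  refine le_trans (LinearMap.finrank_le_finrank_of_surjective (f := Fintype.linearCombination k v) ?_) ?_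
  · intro z
    obtain ⟨c, hc⟩ := hv z
    exact ⟨c, by rw [Fintype.linearCombination_apply, hc]⟩
  · rw [Module.finrank_fintype_fun_eq_card, Fintype.card_fin]

/-- Subschemes at a point whose local ring is spanned by `n` elements have at most `n` sections. -/
theorem finrank_quot_le (Z : X.IdealSheafData) {x : X} (hx : IsClosed ({x} : Set X))
    (hZ : (Z.support : Set X) ⊆ {x}) {n : ℕ} (v : Fin n → X.presheaf.stalk x)
    (hv : ∀ r : X.presheaf.stalk x, ∃ c : Fin n → k,
      r - ∑ i, X.presheaf.germ ⊤ x trivial (Coh.toGlobal (X ↘ Spec (CommRingCat.of k)) (c i)) * v i ∈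
        IntMult.stalkIdeal Z x) :
    Module.finrank k (Coh.HH X (ClSub.quotMod Z) 0) ≤ n := by
  haveI := EulerIneqLib.isNoetherian_proper (X := X) k
  haveI := mono_idealModι Z
  rw [← ShBCLib.finrank_HH_iso (K := k) (cokerIdealIso Z) 0]
  let q := stalkLin (cokernel.π (ClSub.idealModι Z)) x
  refine finrank_le_of_surj k hx ?_ (fun i => (q (v i • ParaFLib.oneG x) : (cokernel (ClSub.idealModι Z)).presheaf.stalk x)) fun z => ?_
  · exact fun y hy => hZ (IntLib.support_quotMod_subset Z fun (h : Subsingleton _) =>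
      hy ((((isIso_iff_stalk (cokerIdealIso Z).hom).1 inferInstance y).1).subsingleton))
  · obtain ⟨w, hw⟩ := DevLib.coker_surjective (ClSub.idealModι Z) x z
    obtain ⟨r, rfl⟩ := (ParaFLib.bijective_oneG x).2 w
    obtain ⟨c, hc⟩ := hv r
    refine ⟨c, hw.symm.trans ?_⟩
    have h0 : q ((r - ∑ i, X.presheaf.germ ⊤ x trivial (Coh.toGlobal (X ↘ Spec (CommRingCat.of k)) (c i)) * v i) •
        ParaFLib.oneG x) = 0 :=
      (DevLib.coker_exact (ClSub.idealModι Z) x _).2 ((HilbObsLib.mem_range_idealModι Z x _).2 hc)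
    rw [sub_smul, map_sub, sub_eq_zero, Finset.sum_smul, map_sum] at h0
    refine h0.trans (Finset.sum_congr rfl fun i _ => ?_)
    rw [mul_smul, map_smul]
    rfl

/-- Residues at closed points are constants. -/
theorem exists_const_sub_mem {x : X} (hx : IsClosed ({x} : Set X)) (r : X.presheaf.stalk x) :
    ∃ c : k, r - X.presheaf.germ ⊤ x trivial (Coh.toGlobal (X ↘ Spec (CommRingCat.of k)) c) ∈
      IsLocalRing.maximalIdeal (X.presheaf.stalk x) := by
  obtain ⟨c, hc⟩ := ShStabLib.residue_toGlobal_surjective k x hx (IsLocalRing.residue _ r)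
  refine ⟨c, (IsLocalRing.residue_eq_zero_iff _).1 ?_⟩
  rw [map_sub, sub_eq_zero]
  exact hc.symm

/-- The point subscheme has at most one section. -/
theorem finrank_quot_point_le {x : X} (hx : IsClosed ({x} : Set X)) :
    Module.finrank k (Coh.HH X (ClSub.quotMod (Scheme.IdealSheafData.vanishingIdeal (⟨{x}, hx⟩ : Closeds X))) 0) ≤ 1 := by
  refine finrank_quot_le k _ hx (by rw [Scheme.IdealSheafData.coe_support_vanishingIdeal]; exact subset_rfl)
    (fun _ => 1) fun r => ?_
  obtain ⟨c, hc⟩ := exists_const_sub_mem k hx r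
  refine ⟨fun _ => c, ?_⟩
  rw [Fin.sum_univ_one, mul_one, (CurveFF.stalkIdeal_point hx).1]
  exact hc

omit [IsAlgClosed k] in
include k in
/-- Stalks of `I ⊗ L` map into `I_x L_x`. -/
theorem exists_stalkIdeal_smul {Z : X.IdealSheafData} {L : X.Modules} {x : X} {g : L.presheaf.stalk x}
    (hg : Function.Bijective fun r : X.presheaf.stalk x => r • g) (_ : PicF.IsInvertible L)
    (z : (tmod (ClSub.idealMod Z) L).presheaf.stalk x) :
    ∃ r ∈ IntMult.stalkIdeal Z x, stalkLin (twistι Z L) x z = r • g := by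
  suffices key : ∀ z, stalkLin (twistι Z L) x z ∈
      IntMult.stalkIdeal Z x • (⊤ : Submodule (X.presheaf.stalk x) (L.presheaf.stalk x)) by
    have htop : (⊤ : Submodule (X.presheaf.stalk x) (L.presheaf.stalk x)) = Submodule.span (X.presheaf.stalk x) {g} :=
      (eq_top_iff.2 fun w _ => Submodule.mem_span_singleton.2 (hg.2 w)).symm
    have h2 := key z
    rw [htop, Submodule.mem_smul_span_singleton] at h2
    obtain ⟨r, hr, he⟩ := h2
    exact ⟨r, hr, he.symm⟩
  intro z
  obtain ⟨z, rfl⟩ := (stalkTensor x (ClSub.idealMod Z) L).surjective z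
  induction z with
  | zero => rw [map_zero, map_zero]; exact zero_mem _
  | add a b ha hb => rw [map_add, map_add]; exact add_mem ha hb
  | tmul n w =>
    obtain ⟨r, hr⟩ := (ParaFLib.bijective_oneG x).2 (stalkLin (ClSub.idealModι Z) x n)
    have hrm := (HilbObsLib.mem_range_idealModι Z x r).1 ⟨n, hr.symm⟩
    change r • ParaFLib.oneG x = _ at hr
    rw [twistι, stalkLin_comp, LinearMap.comp_apply, stalkTensor_natural_left, LinearMap.rTensor_tmul, ← hr,
      ← TensorProduct.smul_tmul', map_smul, map_smul]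
    exact Submodule.smul_mem_smul hrm trivial

variable (hdim : topologicalKrullDim X ≤ 1)

include hdim in
/-- `H⁰` of a quotient lifts when the kernel has large Euler characteristic. -/
theorem surjective_H0 {S : ShortComplex X.Modules} (hS : S.ShortExact) (hS₁ : Coh.IsCoh S.X₁) {L : X.Modules}
    (hL : PicF.IsInvertible L) (ι : S.X₁ ⟶ L) [Mono ι] (hge : (Curv2.genus k X : ℤ) ≤ Curv2.euler k X S.X₁) :
    Function.Surjective (hMap (k := k) S.g 0) := by
  haveI : Subsingleton (Coh.HH X S.X₁ 1) := by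
    by_contra h
    haveI := not_subsingleton_iff_nontrivial.1 h
    have := euler_lt_genus k hdim hS₁ hL ι
    omega
  intro z
  have hz : z ∈ LinearMap.ker (hδ (k := k) hS 0) :=
    LinearMap.mem_ker.2 (Subsingleton.elim (α := Coh.HH X S.X₁ 1) _ _)
  rw [← range_hMap_g] at hz
  exact hz

include hdim in
/-- `H⁰` of a surjection out of a submodule of an invertible module. -/
theorem surjective_H0_epi {P Q L : X.Modules} (hL : PicF.IsInvertible L) (hP : Coh.IsCoh P) (ι : P ⟶ L) [Mono ι]
    (hQ : Coh.IsCoh Q) (φ : P ⟶ Q) [Epi φ]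
    (hge : (Curv2.genus k X : ℤ) ≤ Curv2.euler k X P - Curv2.euler k X Q) :
    Function.Surjective (hMap (k := k) φ 0) := by
  haveI := EulerIneqLib.isNoetherian_proper (X := X) k
  have hker : Coh.IsCoh (kernel φ) := (QCohLib.isCoh_kernel_cokernel φ hP hQ).1
  let S : ShortComplex X.Modules := ShortComplex.mk (kernel.ι φ) φ (kernel.condition φ)
  have hS : S.ShortExact := ShortComplex.ShortExact.mk'
    (ShortComplex.exact_of_f_is_kernel S (kernelIsKernel φ)) (inferInstanceAs (Mono (kernel.ι φ))) ‹Epi φ›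
  refine surjective_H0 k hdim (S := S) hS hker hL (kernel.ι φ ≫ ι) ?_
  have e1 : Curv2.euler k X P = Curv2.euler k X (kernel φ) + Curv2.euler k X Q :=
    euler_shortExact (K := k) (S := S) hS hker hP hQ
  show (Curv2.genus k X : ℤ) ≤ Curv2.euler k X (kernel φ)
  omega

variable (h0 : Module.finrank k (Coh.HH X (Coh.structureModule X) 0) = 1) {L : X.Modules} (hL : PicF.IsInvertible L)
include hdim h0 hL

/-- Sections realize any germ modulo a small subscheme at a point. -/
theorem exists_section_mod (Z : X.IdealSheafData) {x : X} (hx : IsClosed ({x} : Set X))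
    (hZ : (Z.support : Set X) ⊆ {x})
    (hdeg : 2 * (Curv2.genus k X : ℤ) - 1 + Module.finrank k (Coh.HH X (ClSub.quotMod Z) 0) ≤ Curv2.deg k X L 1)
    (z : L.presheaf.stalk x) :
    ∃ σ : Γ(L, ⊤), L.presheaf.germ ⊤ x trivial σ - z ∈ LinearMap.range (stalkLin (twistι Z L) x) := by
  haveI := EulerIneqLib.isNoetherian_proper (X := X) k
  haveI := mono_twistι Z hL
  have hd := dim_le_zero_of_subset hZ
  have hIL := isCoh_tmod (RefOne.isCoh_idealMod Z) (isCoh_of_isInvertible hL)
  have hsur : Function.Surjective (hMap (k := k) (cokernel.π (twistι Z L)) 0) := by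
    refine surjective_H0 k hdim (S := DevLib.cokerSeq (twistι Z L)) (DevLib.cokerSeq_shortExact _) hIL hL (twistι Z L) ?_
    show (Curv2.genus k X : ℤ) ≤ Curv2.euler k X (tmod (ClSub.idealMod Z) L)
    rw [euler_ideal_tensor k Z hd hL, euler_eq_deg k hdim h0]
    omega
  have hsupp : CohB1.support (cokernel (twistι Z L)) ⊆ {x} := by
    intro y hy
    by_contra hne
    refine hy (DevLib.subsingleton_coker (twistι Z L) fun w => ?_)
    obtain ⟨g, hg, hg'⟩ := exists_gen_twist (k := k) Z hL y
    obtain ⟨r, rfl⟩ := hg.2 w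
    have hy' : y ∉ Set.range Z.subschemeι := by
      rw [Scheme.IdealSheafData.range_subschemeι]
      exact fun h => hne (hZ h)
    exact hg' r (by rw [HilbObsLib.stalkIdeal_eq_top Z hy']; trivial)
  obtain ⟨s, hs, -⟩ := exists_global_germ' hx (topologicalKrullDim_zero_of_discreteTopology ({x} : Set X))
    (cokernel (twistι Z L)) hsupp x (stalkLin (cokernel.π (twistι Z L)) x z)
  obtain ⟨c, hc⟩ := hsur ((secOf _).symm s)
  refine ⟨secOf L c, ?_⟩
  refine (DevLib.coker_exact (twistι Z L) x _).1 ?_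
  have h1 : (cokernel.π (twistι Z L)).app ⊤ (secOf L c) = s :=
    (secOf_hMap (k := k) _ _).symm.trans ((congrArg (secOf _) hc).trans ((secOf _).apply_symm_apply s))
  rw [map_sub, stalkLin_germ, h1, hs, sub_self]

/-- The composite `I_x ⊗ L ⟶ L ⟶ L|_y` is surjective on sections. -/
theorem surjective_H0_pair (hdeg : 2 * (Curv2.genus k X : ℤ) + 1 ≤ Curv2.deg k X L 1) {J K : X.IdealSheafData}
    (hJ : topologicalKrullDim (J.support : Set X) ≤ 0) (hK : topologicalKrullDim (K.support : Set X) ≤ 0)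
    (dJ : Module.finrank k (Coh.HH X (ClSub.quotMod J) 0) ≤ 1) (dK : Module.finrank k (Coh.HH X (ClSub.quotMod K) 0) ≤ 1)
    {Q : X.Modules} (hQ : Coh.IsCoh Q) (heQ : Curv2.euler k X Q = Module.finrank k (Coh.HH X (ClSub.quotMod K) 0))
    (φ : tmod (ClSub.idealMod J) L ⟶ Q) [Epi φ] : Function.Surjective (hMap (k := k) φ 0) := by
  haveI := EulerIneqLib.isNoetherian_proper (X := X) k
  haveI := mono_twistι J hL
  have e := euler_ideal_tensor k J hJ hL
  have e' := euler_eq_deg k hdim h0 L
  exact surjective_H0_epi k hdim hL (isCoh_tmod (RefOne.isCoh_idealMod J) (isCoh_of_isInvertible hL)) (twistι J L) hQ φ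
    (by omega)

omit [IsAlgClosed k] hdim h0 in
include k hL in
theorem euler_coker_twist (K : X.IdealSheafData) (hK : topologicalKrullDim (K.support : Set X) ≤ 0) :
    Coh.IsCoh (cokernel (twistι K L)) ∧
      Curv2.euler k X (cokernel (twistι K L)) = Module.finrank k (Coh.HH X (ClSub.quotMod K) 0) := by
  haveI := EulerIneqLib.isNoetherian_proper (X := X) k
  haveI := mono_twistι K hL
  have hKL := isCoh_tmod (RefOne.isCoh_idealMod K) (isCoh_of_isInvertible hL)
  have hQ := (QCohLib.isCoh_kernel_cokernel (twistι K L) hKL (isCoh_of_isInvertible hL)).2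
  refine ⟨hQ, ?_⟩
  have e2 : Curv2.euler k X L = Curv2.euler k X (tmod (ClSub.idealMod K) L) + Curv2.euler k X (cokernel (twistι K L)) :=
    euler_shortExact (K := k) (DevLib.cokerSeq_shortExact (twistι K L)) hKL (isCoh_of_isInvertible hL) hQ
  rw [euler_ideal_tensor k K hK hL] at e2
  omega

omit [IsAlgClosed k] hdim h0 in
include k hL in
theorem support_coker_twist {x : X} (Z : X.IdealSheafData) (hZ : (Z.support : Set X) ⊆ {x}) :
    CohB1.support (cokernel (twistι Z L)) ⊆ {x} := by
  intro y hy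
  by_contra hne
  haveI := mono_twistι Z hL
  refine hy (DevLib.subsingleton_coker (twistι Z L) fun w => ?_)
  haveI := mono_twistι Z hL
  obtain ⟨g, hg, hg'⟩ := exists_gen_twist (k := k) Z hL y
  obtain ⟨r, rfl⟩ := hg.2 w
  have hy' : y ∉ Set.range Z.subschemeι := by
    rw [Scheme.IdealSheafData.range_subschemeι]
    exact fun h => hne (hZ h)
  exact hg' r (by rw [HilbObsLib.stalkIdeal_eq_top Z hy']; trivial)

omit [IsAlgClosed k] hdim h0 in
include k hL in
theorem surjective_stalk_twist {y : X} (J : X.IdealSheafData) (hy : y ∉ J.support) :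
    Function.Surjective (stalkLin (twistι J L) y) := fun t => by
  obtain ⟨g, hg, hg'⟩ := exists_gen_twist (k := k) J hL y
  obtain ⟨r, rfl⟩ := hg.2 t
  exact hg' r (by
    rw [HilbObsLib.stalkIdeal_eq_top J (by rw [Scheme.IdealSheafData.range_subschemeι]; exact hy)]; trivial)

omit [IsAlgClosed k] hdim h0 in
include k hL in
/-- A germ congruent to a generator modulo `I_y L_y` generates. -/
theorem mem_genLocus_of_sub_mem {y : X} {K : X.IdealSheafData}
    (hK : IntMult.stalkIdeal K y ≤ IsLocalRing.maximalIdeal (X.presheaf.stalk y)) {g : L.presheaf.stalk y}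
    (hg : Function.Bijective fun r : X.presheaf.stalk y => r • g) (σ : Γ(L, ⊤))
    (h : L.presheaf.germ ⊤ y trivial σ - g ∈ LinearMap.range (stalkLin (twistι K L) y)) :
    y ∈ CohB1.genLocus L (secHom L σ) := by
  obtain ⟨b, hb⟩ := h
  obtain ⟨r, hr, hrb⟩ := exists_stalkIdeal_smul k hg hL b
  rw [AmpleLib.mem_genLocus_iff hL, AmpleLib.sec_secHom]
  have ha : L.presheaf.germ ⊤ y trivial σ = (r + 1) • g := by
    rw [add_smul, one_smul, ← hrb, hb, sub_add_cancel]
  rw [ha]
  refine (AmpleLib.bijective_smul_iff hg _).2 ?_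
  by_contra hu
  have h3 : r + 1 - r ∈ IsLocalRing.maximalIdeal (X.presheaf.stalk y) := sub_mem hu (hK hr)
  rw [add_sub_cancel_left] at h3
  exact h3 isUnit_one

/-- Sections separate two points. -/
theorem exists_sep_pts (hdeg : 2 * (Curv2.genus k X : ℤ) + 1 ≤ Curv2.deg k X L 1) {x y : X}
    (hx : IsClosed ({x} : Set X)) (hy : IsClosed ({y} : Set X)) (hne : y ≠ x) :
    ∃ σ : Γ(L, ⊤), x ∉ CohB1.genLocus L (secHom L σ) ∧ y ∈ CohB1.genLocus L (secHom L σ) := by
  let J := Scheme.IdealSheafData.vanishingIdeal (⟨{x}, hx⟩ : Closeds X)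
  let K := Scheme.IdealSheafData.vanishingIdeal (⟨{y}, hy⟩ : Closeds X)
  have hJ : (J.support : Set X) ⊆ {x} := by rw [Scheme.IdealSheafData.coe_support_vanishingIdeal]; exact subset_rfl
  have hK : (K.support : Set X) ⊆ {y} := by rw [Scheme.IdealSheafData.coe_support_vanishingIdeal]; exact subset_rfl
  haveI := EulerIneqLib.isNoetherian_proper (X := X) k
  haveI := mono_twistι K hL
  let φ : tmod (ClSub.idealMod J) L ⟶ cokernel (twistι K L) := twistι J L ≫ cokernel.π (twistι K L)
  have hsupp := support_coker_twist k hL K hK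
  haveI : Epi φ := (epi_iff_stalk φ).2 fun w t => by
    by_cases hwy : w = y
    · subst hwy
      obtain ⟨t, rfl⟩ := DevLib.coker_surjective (twistι K L) w t
      obtain ⟨a, rfl⟩ := surjective_stalk_twist k hL J (fun h => hne (hJ h)) t
      exact ⟨a, by rw [stalkLin_comp, LinearMap.comp_apply]⟩
    · haveI : Subsingleton ((cokernel (twistι K L)).presheaf.stalk w) := not_not.1 fun h => hwy (hsupp h)
      exact ⟨0, Subsingleton.elim _ _⟩
  obtain ⟨hQ, heQ⟩ := euler_coker_twist k hL K (dim_le_zero_of_subset hK)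
  have hsur := surjective_H0_pair k hdim h0 hL hdeg (dim_le_zero_of_subset hJ) (dim_le_zero_of_subset hK)
    (finrank_quot_point_le k hx) (finrank_quot_point_le k hy) hQ heQ φ
  obtain ⟨g, hg⟩ := ParaFLib.exists_stalk_gen hL y
  obtain ⟨s, hs, -⟩ := exists_global_germ' hy (topologicalKrullDim_zero_of_discreteTopology ({y} : Set X))
    (cokernel (twistι K L)) hsupp y (stalkLin (cokernel.π (twistι K L)) y g)
  obtain ⟨c, hc⟩ := hsur ((secOf _).symm s)
  refine ⟨(twistι J L).app ⊤ (secOf _ c), notMem_genLocus_twist k hL (CurveFF.stalkIdeal_point hx).1.le _,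
    mem_genLocus_of_sub_mem k hL (CurveFF.stalkIdeal_point hy).1.le hg _ ?_⟩
  have h1 : φ.app ⊤ (secOf _ c) = s :=
    (secOf_hMap (k := k) _ _).symm.trans ((congrArg (secOf _) hc).trans ((secOf _).apply_symm_apply s))
  haveI := mono_twistι K hL
  refine (DevLib.coker_exact (twistι K L) y _).1 ?_
  rw [map_sub, ← stalkLin_germ (twistι J L), ← LinearMap.comp_apply (stalkLin (cokernel.π (twistι K L)) y),
    ← stalkLin_comp, stalkLin_germ φ, h1, hs, sub_self]

omit [IsProper (X ↘ Spec (CommRingCat.of k))] [IsAlgClosed k] [IsIntegral X] hdim h0 hL in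
/-- A proper subideal of `m` containing `m²` lies in one of colength one in `m`. -/
theorem exists_maximal_sub {R : Type u} [CommRing R] [IsLocalRing R] [IsNoetherianRing R] {W : Ideal R}
    (hW : W < IsLocalRing.maximalIdeal R) :
    ∃ W', W ≤ W' ∧ W' < IsLocalRing.maximalIdeal R ∧
      ∀ I, W' < I → I ≤ IsLocalRing.maximalIdeal R → I = IsLocalRing.maximalIdeal R := by
  obtain ⟨W', ⟨h1, h2⟩, hmax⟩ := set_has_maximal_iff_noetherian.2 (inferInstance : IsNoetherian R R)
    {I : Ideal R | W ≤ I ∧ I < IsLocalRing.maximalIdeal R} ⟨W, le_rfl, hW⟩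
  exact ⟨W', h1, h2, fun I h3 h4 => by_contra fun h5 => hmax I ⟨h1.trans h3.le, lt_of_le_of_ne h4 h5⟩ h3⟩

/-- Sections separate tangent vectors, also at singular points. -/
theorem exists_sep_tan (hdeg : 2 * (Curv2.genus k X : ℤ) + 1 ≤ Curv2.deg k X L 1) {x : X}
    (hx : IsClosed ({x} : Set X)) {g : L.presheaf.stalk x}
    (hg : Function.Bijective fun r : X.presheaf.stalk x => r • g) {W : Ideal (X.presheaf.stalk x)}
    (hW : IsLocalRing.maximalIdeal (X.presheaf.stalk x) ^ 2 ≤ W) (hW' : W < IsLocalRing.maximalIdeal (X.presheaf.stalk x)) :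
    ∃ (σ : Γ(L, ⊤)) (a : X.presheaf.stalk x), L.presheaf.germ ⊤ x trivial σ = a • g ∧
      a ∈ IsLocalRing.maximalIdeal (X.presheaf.stalk x) ∧ a ∉ W := by
  haveI := EulerIneqLib.isNoetherian_proper (X := X) k
  obtain ⟨V, hWV, hV, hmax⟩ := exists_maximal_sub hW'
  obtain ⟨a, ha, haV⟩ := SetLike.exists_of_lt hV
  let Z := idealAt V (hW.trans hWV)
  have hst : IntMult.stalkIdeal Z x = V := stalkIdeal_idealAt V (hW.trans hWV)
  have hd : Module.finrank k (Coh.HH X (ClSub.quotMod Z) 0) ≤ 2 := by
    refine finrank_quot_le k Z hx (support_idealAt V _ hx) ![1, a] fun r => ?_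
    obtain ⟨c, hc⟩ := exists_const_sub_mem k hx r
    have hsup : V ⊔ Ideal.span {a} = IsLocalRing.maximalIdeal (X.presheaf.stalk x) :=
      hmax _ (lt_of_le_of_ne le_sup_left fun h => haV (h ▸ Submodule.mem_sup_right (Ideal.mem_span_singleton_self a)))
        (sup_le hV.le ((Ideal.span_singleton_le_iff_mem _).2 ha))
    rw [← hsup] at hc
    obtain ⟨w, hw, t, ht, hwt⟩ := Submodule.mem_sup.1 hc
    obtain ⟨b, rfl⟩ := Ideal.mem_span_singleton'.1 ht
    obtain ⟨c', hc'⟩ := exists_const_sub_mem k hx b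
    refine ⟨![c, c'], ?_⟩
    rw [hst, Fin.sum_univ_two]
    simp only [Matrix.cons_val_zero, Matrix.cons_val_one, Matrix.head_cons, mul_one]
    have h2 : (b - X.presheaf.germ ⊤ x trivial (Coh.toGlobal (X ↘ Spec (CommRingCat.of k)) c')) * a ∈ V := by
      refine hWV (hW ?_)
      rw [pow_two]
      exact Ideal.mul_mem_mul hc' ha
    convert add_mem hw h2 using 1
    rw [sub_mul, ← add_sub_assoc, hwt]
    ring
  obtain ⟨σ, b, hb⟩ := exists_section_mod k hdim h0 hL Z hx (support_idealAt V _ hx) (by omega) (a • g)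
  obtain ⟨r, hr, hrb⟩ := exists_stalkIdeal_smul k hg hL b
  rw [hst] at hr
  refine ⟨σ, r + a, ?_, add_mem (hV.le hr) ha, fun h => haV ?_⟩
  · rw [add_smul, ← hrb, hb, sub_add_cancel]
  · have := sub_mem (hWV h) hr
    rwa [add_sub_cancel_left] at this

end Groth.Agent.SingRRLib
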