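import Groth.Agent.SingRRLib.Embed
import Groth.Agent.RelVALib.CurveNhd
import Groth.Agent.S4471

/-!
# Modules of degree above `2g` on geometrically integral proper curves are very ample
-/

set_option autoImplicit false
set_option backward.isDefEq.respectTransparency false
set_option backward.isDefEq.respectTransparency.types false
set_option linter.style.haveILetI false
set_option maxHeartbeats 1000000

universe u

open CategoryTheory CategoryTheory.Limits AlgebraicGeometry TopologicalSpace Opposite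
open Groth.Agent.PullbackMod Groth.Agent.DCohLib

noncomputable section

namespace Groth.Agent.SingRRLib

/-- Relative very ampleness over the spectrum of a field, with the projective space of the field. -/
theorem exists_closedImmersion_projSpace (k : Type u) [Field k] {X : Scheme.{u}}
    (f : X ⟶ Spec (CommRingCat.of k)) [IsProper f] {L : X.Modules} (U : (Spec (CommRingCat.of k)).Opens)
    (hU : U = ⊤) (h : RelAmple.IsRelVeryAmplePn (f ∣_ U) (L.restrict (f ⁻¹ᵁ U).ι)) :
    ∃ (n : ℕ) (i : X ⟶ CohB1.ProjSpace n k), IsClosedImmersion i ∧ i ≫ CohB1.ProjSpace.toSpec n k = f ∧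
      Nonempty ((Scheme.Modules.pullback i).obj (Twist.twistProjSpace n k 1) ≅ L) := by
  subst hU
  obtain ⟨n, i, hi, hw, ⟨θ⟩⟩ := h
  letI : Algebra (ULift.{u} ℤ) k :=
    ((Int.castRingHom k).comp (ULift.ringEquiv : ULift.{u} ℤ ≃+* ℤ).toRingHom).toAlgebra
  obtain ⟨g, hg', ⟨τ⟩⟩ := S4471.exists_bc n (ULift.{u} ℤ) k 1
  let U : (Spec (CommRingCat.of k)).Opens := ⊤
  haveI : IsIso U.ι := (Spec (CommRingCat.of k)).topIso.isIso_hom
  let c : Spec (CommRingCat.of k) ⟶ U.toScheme := inv U.ι
  let ε : CohB1.ProjSpace n k ⟶ CohB1.ProjSpaceOver n U.toScheme :=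
    ProjMap.liftOver g (CohB1.ProjSpace.toSpec n k ≫ c)
  have hsq : IsPullback ε (CohB1.ProjSpace.toSpec n k) (CohB1.ProjSpaceOver.toBase n U.toScheme) c := by
    refine IsPullback.of_right ?_ (ProjMap.liftOver_toBase _ _) (IsPullback.of_hasPullback _ _)
    rw [show ε ≫ pullback.fst _ _ = g from ProjMap.liftOver_toInt _ _,
      show c ≫ specULiftZIsTerminal.from U.toScheme = Spec.map (CommRingCat.ofHom (algebraMap (ULift.{u} ℤ) k)) from
        specULiftZIsTerminal.hom_ext _ _]
    exact hg'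
  haveI : IsIso ε := hsq.isIso_fst_of_isIso
  haveI : IsIso (f ⁻¹ᵁ U).ι := X.topIso.isIso_hom
  have hw' : i ≫ CohB1.ProjSpaceOver.toBase n U.toScheme = f ∣_ U := hw
  let j : X ⟶ CohB1.ProjSpace n k := inv (f ⁻¹ᵁ U).ι ≫ i ≫ inv ε
  have hj : j ≫ CohB1.ProjSpace.toSpec n k = f := by
    have h1 : inv ε ≫ CohB1.ProjSpace.toSpec n k = CohB1.ProjSpaceOver.toBase n U.toScheme ≫ U.ι := by
      rw [IsIso.inv_comp_eq, ← Category.assoc, hsq.w, Category.assoc, IsIso.inv_hom_id, Category.comp_id]
    rw [Category.assoc, Category.assoc, h1, ← Category.assoc i, hw', morphismRestrict_ι, IsIso.inv_hom_id_assoc]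
  haveI := hi
  haveI : IsImmersion j := inferInstanceAs (IsImmersion (inv (f ⁻¹ᵁ U).ι ≫ i ≫ inv ε))
  haveI : IsProper (j ≫ CohB1.ProjSpace.toSpec n k) := by rw [hj]; infer_instance
  haveI : IsProper j := IsProper.of_comp j (CohB1.ProjSpace.toSpec n k)
  refine ⟨n, j, (IsClosedImmersion.iff_isProper_and_mono _).2 ⟨inferInstance, inferInstance⟩, hj, ⟨?_⟩⟩
  -- the twisting sheaves agree
  have hεt : inv ε ≫ g = pullback.fst _ _ := by
    rw [IsIso.inv_comp_eq]
    exact (ProjMap.liftOver_toInt _ _).symm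
  let e₁ : (Scheme.Modules.pullback (inv ε)).obj (Twist.twistProjSpace n k 1) ≅ Twist.twistOver n U.toScheme 1 :=
    (Scheme.Modules.pullback (inv ε)).mapIso τ.symm ≪≫ (Scheme.Modules.pullbackComp (inv ε) g).app _ ≪≫
      (Scheme.Modules.pullbackCongr hεt).app _
  let P := Twist.twistProjSpace n k 1
  let q := inv (f ⁻¹ᵁ U).ι
  exact ((Scheme.Modules.pullbackComp q (i ≫ inv ε)).app P).symm ≪≫
    (Scheme.Modules.pullback q).mapIso (((Scheme.Modules.pullbackComp i (inv ε)).app P).symm ≪≫
      (Scheme.Modules.pullback i).mapIso e₁ ≪≫ θ.symm ≪≫ AmpleLib.restrictIso _ _) ≪≫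
    (Scheme.Modules.pullbackComp q (f ⁻¹ᵁ U).ι).app L ≪≫
    (Scheme.Modules.pullbackCongr (IsIso.inv_hom_id _)).app L ≪≫ (Scheme.Modules.pullbackId X).app L

/-- The fibre over its residue field. -/
local instance fibreOverS {C S : Scheme.{u}} (f : C ⟶ S) (s : S) :
    (f.fiber s).Over (Spec (CommRingCat.of (S.residueField s))) := ⟨f.fiberToSpecResidueField s⟩

/-- Degree above `2g` gives very ampleness on geometrically integral proper curves. -/
theorem veryAmple_of_deg (k : Type u) [Field k] {X : Scheme.{u}} [X.Over (Spec (CommRingCat.of k))]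
    [IsProper (X ↘ (Spec (CommRingCat.of k)))] [GeometricallyIntegral (X ↘ (Spec (CommRingCat.of k)))]
    (hdim : topologicalKrullDim X = 1) (h0 : Module.finrank k (Coh.HH X (Coh.structureModule X) 0) = 1)
    {L : X.Modules} (hL : PicF.IsInvertible L) (hdeg : 2 * (Curv2.genus k X : ℤ) + 1 ≤ Curv2.deg k X L 1) :
    ∃ (n : ℕ) (i : X ⟶ CohB1.ProjSpace n k), IsClosedImmersion i ∧
      i ≫ CohB1.ProjSpace.toSpec n k = X ↘ (Spec (CommRingCat.of k)) ∧
      Nonempty ((Scheme.Modules.pullback i).obj (Twist.twistProjSpace n k 1) ≅ L) := by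
  let pX := X ↘ Spec (CommRingCat.of k)
  haveI : Subsingleton ↥(Spec (CommRingCat.of k)) := inferInstanceAs (Subsingleton (PrimeSpectrum k))
  haveI : IsIntegral X := GeometricallyIntegral.isIntegral_of_subsingleton pX
  haveI := EulerIneqLib.isNoetherian_proper (X := X) k
  haveI := InvExt.isQCoh_of_isInvertible hL
  haveI : LocallyOfFinitePresentation pX := inferInstance
  haveI : Flat pX := inferInstance
  let s : ↥(Spec (CommRingCat.of k)) := IsLocalRing.closedPoint k
  have h1 : Subsingleton (CohIII.fiberH pX L s 1) := by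
    haveI : Surjective ((Spec (CommRingCat.of k)).fromSpecResidueField s) :=
      ⟨fun z => ⟨IsLocalRing.closedPoint _, Subsingleton.elim _ _⟩⟩
    haveI : IsClosedImmersion ((Spec (CommRingCat.of k)).fromSpecResidueField s) :=
      IsClosedImmersion.of_isPreimmersion _ (by
        rw [Set.range_eq_univ.2 ((Spec (CommRingCat.of k)).fromSpecResidueField s).surjective]
        exact isClosed_univ)
    haveI : IsIso ((Spec (CommRingCat.of k)).fromSpecResidueField s) := isIso_of_isClosedImmersion_of_surjective _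
    haveI : IsIso (pX.fiberι s) := inferInstanceAs (IsIso (pullback.fst pX _))
    exact S4471.subsingleton_HH_transport pX (pX.fiberι s) L 1
      (subsingleton_H1_of_deg k hdim.le h0 hL (by omega))
  let K := AlgebraicClosure k
  let ψ : Spec (CommRingCat.of K) ⟶ Spec (CommRingCat.of k) := Spec.map (CommRingCat.ofHom (algebraMap k K))
  have h : IsPullback (Curv2.bcFst k X K) (Curv2.bc k X K ↘ Spec (CommRingCat.of K)) pX ψ :=
    IsPullback.of_hasPullback pX ψ
  haveI : IsProper (Curv2.bc k X K ↘ Spec (CommRingCat.of K)) := MorphismProperty.of_isPullback h inferInstance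
  haveI : GeometricallyIntegral (Curv2.bc k X K ↘ Spec (CommRingCat.of K)) :=
    MorphismProperty.of_isPullback h ‹GeometricallyIntegral pX›
  haveI : Subsingleton ↥(Spec (CommRingCat.of K)) := inferInstanceAs (Subsingleton (PrimeSpectrum K))
  haveI : IsIntegral (Curv2.bc k X K) :=
    GeometricallyIntegral.isIntegral_of_subsingleton (Curv2.bc k X K ↘ Spec (CommRingCat.of K))
  have hpt : ∀ ζ, ψ ζ = s := fun ζ => Subsingleton.elim _ _
  obtain ⟨V, hsV, le, n, τ, hτ⟩ := RelVALib.exists_spanning_lift pX hL s h1 ψ hpt h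
  have hdK : topologicalKrullDim (Curv2.bc k X K) = 1 := (CurveFF.dim_bc k X K).trans hdim
  have hdegK : 2 * (Curv2.genus K (Curv2.bc k X K) : ℤ) + 1 ≤
      Curv2.deg K (Curv2.bc k X K) ((Scheme.Modules.pullback (Curv2.bcFst k X K)).obj L) 1 := by
    refine le_trans (le_of_eq ?_) (hdeg.trans (DegDevLib.deg_bc (k := k) (X := X) (k' := K) L 1).ge)
    exact congrArg (fun m : ℕ => 2 * (m : ℤ) + 1) (CurveFF.genus_bc k X K)
  obtain ⟨U, -, hsU, hva⟩ := RelVALib.exists_affine_nhd_veryAmple pX hL hsV τ ψ hpt h le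
    (embGen_of_span hdK.le (AmpleLib.isInvertible_pullback _ hL) hdegK _ hτ)
  exact exists_closedImmersion_projSpace k pX U
    (eq_top_iff.2 fun z _ => (Subsingleton.elim s z) ▸ hsU) hva

end Groth.Agent.SingRRLib
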