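import Groth.Agent.SingRRLib.Sep
import Groth.Agent.RelVALib.Curve

/-!
# Spanning sections of a module of degree above `2g` embed an integral curve, singular or not
-/

set_option autoImplicit false
set_option backward.isDefEq.respectTransparency false
set_option backward.isDefEq.respectTransparency.types false
set_option linter.style.haveILetI false
set_option maxHeartbeats 1000000

universe u

open CategoryTheory CategoryTheory.Limits AlgebraicGeometry TopologicalSpace Opposite
open Groth.Agent.PullbackMod Groth.Agent.DCohLib Groth.Agent.ParaFLib Groth.Agent.AmpleLib Groth.Agent.RelVALib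

noncomputable section

namespace Groth.Agent.SingRRLib

variable {K : Type u} [Field K] {X : Scheme.{u}}

/-- Spanning sections of a module of degree above `2g` on an integral curve embed it. -/
theorem embGen_of_span [IsAlgClosed K] [X.Over (Spec (CommRingCat.of K))] [IsProper (X ↘ Spec (CommRingCat.of K))]
    [IsIntegral X] (hdim : topologicalKrullDim X ≤ 1) {L : X.Modules} (hL : PicF.IsInvertible L)
    (hdeg : 2 * (Curv2.genus K X : ℤ) + 1 ≤ Curv2.deg K X L 1) {n : ℕ}
    (s : Fin (n + 1) → (Coh.structureModule X ⟶ L))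
    (hspan : ∀ σ : Γ(L, ⊤), ∃ c : Fin (n + 1) → K, σ = lin (X ↘ Spec (CommRingCat.of K)) s c) :
    EmbGen (X ↘ Spec (CommRingCat.of K)) s := by
  classical
  set pX := X ↘ Spec (CommRingCat.of K)
  have hcov : ∀ x, ∃ a, x ∈ CohB1.genLocus L (s a) := by
    intro x
    obtain ⟨τ, hτ⟩ := AmpleLib.exists_genLocus_of_isGloballyGenerated hL
      (isGloballyGenerated_of_deg (k := K) hdim (CurveLib.finrank_H0_structure (k := K)) hL (by omega)) x
    by_contra hne
    push Not at hne
    obtain ⟨c, hc⟩ := hspan (sec τ)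
    obtain ⟨e, he⟩ := exists_stalk_gen hL x
    choose r hr using fun a => he.2 (L.presheaf.germ ⊤ x trivial (sec (s a)))
    have hrm : ∀ a, r a ∈ IsLocalRing.maximalIdeal (X.presheaf.stalk x) := fun a hu => hne a (by
      rw [mem_genLocus_iff hL, ← hr a, bijective_smul_iff he]; exact hu)
    have h2 : L.presheaf.germ ⊤ x trivial (sec τ) =
        (∑ a, X.presheaf.germ ⊤ x trivial (ProjUP.toGlobal pX (c a)) * r a) • e := by
      rw [hc, lin, map_sum, Finset.sum_smul]
      exact Finset.sum_congr rfl fun a _ => by rw [germ_smul', mul_smul, ← hr a]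
    rw [mem_genLocus_iff hL, h2, bijective_smul_iff he] at hτ
    exact (Ideal.sum_mem _ fun a _ => Ideal.mul_mem_left _ _ (hrm a) :
      _ ∈ IsLocalRing.maximalIdeal (X.presheaf.stalk x)) hτ
  obtain ⟨F, hFU, hFg, hFt⟩ := GenMorph.exists_ratioFamily hL s hcov
  let φ : K →+* Γ(X, ⊤) := ProjUP.toGlobal pX
  let f := GenMorph.toProj φ F
  have hf : f ≫ CohB1.ProjSpace.toSpec n K = pX := GenMorph.toProj_toSpec φ F pX rfl
  have hD : ∀ j P, f P ∈ ClImmLib.D (k := K) j ↔ P ∈ F.U j := fun j P => by
    rw [← GenMorph.preimage_basicOpen φ F j]; rfl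
  have hcomb : ∀ (c : Fin (n + 1) → K) (j : Fin (n + 1)) (P : X) (hP : f P ∈ ClImmLib.D (k := K) j),
      ∃ w : X.presheaf.stalk P, (ClImmLib.LF f).presheaf.germ ⊤ P trivial (ClImmLib.comb pX f c) = w • ClImmLib.gen f j P hP ∧
        L.presheaf.germ ⊤ P trivial (lin pX s c) = w • L.presheaf.germ ⊤ P trivial (sec (s j)) := by
    intro c j P hP
    refine ⟨_, ClImmLib.germ_comb hf c j P hP, (germ_lin pX s c j (F.t j) (hFt j) P ((hD j P).1 hP)).trans ?_⟩
    rw [map_sum]
    congr 1
    refine Finset.sum_congr rfl fun a _ => ?_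
    rw [map_mul]
    congr 1
    · rw [ClImmLib.cst, RingHom.comp_apply, Scheme.Hom.germ_stalkMap_apply]
      show X.presheaf.germ ⊤ P trivial (ProjUP.toGlobal pX (c a)) =
        X.presheaf.germ ⊤ P trivial (f.appTop (ProjUP.toGlobal (CohB1.ProjSpace.toSpec n K) (c a)))
      congr 1
      rw [← hf]
      rfl
    · rw [ClImmLib.ρ, Scheme.Hom.germ_stalkMap_apply, Scheme.Hom.app_eq_appLE]
      have h := congrArg (X.presheaf.germ (F.U j) P ((hD j P).1 hP)) (GenMorph.toProj_appLE_ratio φ F j a)
      refine h.symm.trans ?_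
      rw [Scheme.Hom.appLE, Scheme.Hom.appLE, ConcreteCategory.comp_apply, ConcreteCategory.comp_apply,
        TopCat.Presheaf.germ_res_apply, TopCat.Presheaf.germ_res_apply]
      rfl
  have hgenj : ∀ j P, P ∈ F.U j →
      Function.Bijective fun r : X.presheaf.stalk P => r • L.presheaf.germ ⊤ P trivial (sec (s j)) :=
    fun j P h => (mem_genLocus_iff hL).1 ((hFU j).le h)
  haveI : IsClosedImmersion f := by
    have h0 := CurveLib.finrank_H0_structure (k := K) (X := X)
    refine ClImmLib.isClosedImmersion_of_sep hf (fun P Q hP hQ hne => ?_) fun P hP => ?_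
    · obtain ⟨σ, h1, h2⟩ := exists_sep_pts K hdim h0 hL hdeg hP hQ (Ne.symm hne)
      obtain ⟨c, rfl⟩ := hspan σ
      refine ⟨c, Or.inl ⟨?_, fun hv => ?_⟩⟩
      · obtain ⟨j, hj⟩ := ClImmLib.exists_mem_D (f P)
        obtain ⟨w, hw1, hw2⟩ := hcomb c j P hj
        rw [hw1, ClImmLib.vanish, smul_sum_mem (ClImmLib.bijective_gen f j P hj)]
        intro hu
        refine h1 ?_
        rw [mem_genLocus_iff hL, sec_secHom, hw2]
        exact (bijective_smul_iff (hgenj j P ((hD j P).1 hj)) w).2 hu
      · obtain ⟨j, hj⟩ := ClImmLib.exists_mem_D (f Q)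
        obtain ⟨w, hw1, hw2⟩ := hcomb c j Q hj
        rw [hw1, ClImmLib.vanish, smul_sum_mem (ClImmLib.bijective_gen f j Q hj)] at hv
        rw [mem_genLocus_iff hL, sec_secHom, hw2, bijective_smul_iff (hgenj j Q ((hD j Q).1 hj))] at h2
        exact hv h2
    · haveI := EulerIneqLib.isNoetherian_proper (X := X) K
      obtain ⟨j, hj⟩ := ClImmLib.exists_mem_D (f P)
      have hgen' := ClImmLib.bijective_gen f j P hj
      let N : Submodule (X.presheaf.stalk P) ((ClImmLib.LF f).presheaf.stalk P) :=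
        Submodule.span (X.presheaf.stalk P) {v | ∃ c : Fin (n + 1) → K,
          v = (ClImmLib.LF f).presheaf.germ ⊤ P trivial (ClImmLib.comb pX f c) ∧ v ∈ ClImmLib.vanish f P} ⊔
        (IsLocalRing.maximalIdeal (X.presheaf.stalk P) ^ 2 •
          (⊤ : Submodule (X.presheaf.stalk P) ((ClImmLib.LF f).presheaf.stalk P)))
      let W : Ideal (X.presheaf.stalk P) :=
        N.comap (LinearMap.toSpanSingleton (X.presheaf.stalk P) _ (ClImmLib.gen f j P hj))
      have hW : IsLocalRing.maximalIdeal (X.presheaf.stalk P) ^ 2 ≤ W := fun r hr =>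
        Submodule.mem_sup_right (Submodule.smul_mem_smul hr trivial)
      have hWm : W ≤ IsLocalRing.maximalIdeal (X.presheaf.stalk P) := fun r hr => by
        have hle : N ≤ ClImmLib.vanish f P := sup_le (Submodule.span_le.2 fun v hv => by
            obtain ⟨_, _, hv⟩ := hv
            exact hv)
          (Submodule.smul_mono_left (Ideal.pow_le_self two_ne_zero))
        exact (smul_sum_mem hgen' r).1 (hle hr)
      suffices hWe : IsLocalRing.maximalIdeal (X.presheaf.stalk P) ≤ W by
        refine Submodule.smul_le.2 fun r hr v _ => ?_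
        obtain ⟨q, rfl⟩ := hgen'.2 v
        show r • q • ClImmLib.gen f j P hj ∈ N
        rw [smul_smul]
        exact hWe (Ideal.mul_mem_right q _ hr)
      by_contra hWe
      obtain ⟨σ, a, hσ, ha, haW⟩ := exists_sep_tan K hdim h0 hL hdeg hP (hgenj j P ((hD j P).1 hj)) hW
        (lt_of_le_not_ge hWm hWe)
      obtain ⟨c, rfl⟩ := hspan σ
      obtain ⟨w, hw1, hw2⟩ := hcomb c j P hj
      obtain rfl : w = a := (hgenj j P ((hD j P).1 hj)).1 (hw2.symm.trans hσ)
      refine haW (Submodule.mem_sup_left (Submodule.subset_span ⟨c, hw1.symm, ?_⟩))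
      exact (smul_sum_mem hgen' w).2 ha
  have haff : ∀ i, IsAffineOpen (F.U i) := fun i => by
    rw [← GenMorph.preimage_basicOpen φ F i]
    exact (AmpleEmb.isAffineOpen_stdOpen n K i).preimage f
  let F' : AmpleEmb.RatioFamily X n :=
    { U := F.U, affine := haff, cover := F.cover, t := F.t, t_self := F.t_self, t_open := F.t_open, t_mul := F.t_mul }
  haveI : IsClosedImmersion (AmpleEmb.toProj φ F') := by
    have : AmpleEmb.toProj φ F' = f := by
      refine (X.openCoverOfIsOpenCover F'.U F'.cover).hom_ext _ _ fun i => ?_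
      show (F'.U i).ι ≫ _ = (F.U i).ι ≫ f
      rw [AmpleEmb.ι_toProj, GenMorph.ι_toProj]
      rfl
    rw [this]; infer_instance
  refine ⟨fun a => (hFU a) ▸ haff a, hcov, fun a => ?_⟩
  suffices key : ∀ U : X.Opens, U = F.U a → ∀ t : Fin (n + 1) → Γ(X, U), (∀ b, IsRatio (s a) (s b) (t b)) →
      Function.Surjective (MvPolynomial.eval₂Hom (pX.appLE ⊤ U (fun _ _ => trivial)).hom t) from key _ (hFU a).symm
  rintro U rfl t ht
  have htF : t = F.t a := funext fun b => (hFg a _ le_rfl).1 (by
    simp only [ParaFLib.res_self]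
    exact (ht b).trans (hFt a b).symm)
  subst htF
  intro y
  obtain ⟨p, hp⟩ := AmpleEmb.genAt_of_isClosedImmersion φ F' a y
  refine ⟨MvPolynomial.map (Scheme.ΓSpecIso (CommRingCat.of K)).inv.hom p, ?_⟩
  rw [MvPolynomial.eval₂Hom_map_hom]
  exact hp

end Groth.Agent.SingRRLib
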