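import Groth.Agent.SingRRLib.Core
import Groth.Agent.IdealStalkLib.Comap

/-!
# Ideal sheaves with prescribed stalk at a closed point
-/

set_option autoImplicit false
set_option backward.isDefEq.respectTransparency false
set_option backward.isDefEq.respectTransparency.types false
set_option linter.style.haveILetI false

universe u

open CategoryTheory CategoryTheory.Limits AlgebraicGeometry TopologicalSpace Opposite

noncomputable section

namespace Groth.Agent.SingRRLib

variable {X : Scheme.{u}}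

theorem exists_pow_mem {x : X} {W : Ideal (X.presheaf.stalk x)} {N : ℕ}
    (hW : IsLocalRing.maximalIdeal (X.presheaf.stalk x) ^ N ≤ W) {U : X.Opens} (f : Γ(X, U)) (hx : x ∈ U)
    (hf : x ∉ X.basicOpen f) : X.presheaf.germ U x hx (f ^ N) ∈ W := by
  rw [map_pow]
  refine hW (Ideal.pow_mem_pow ?_ N)
  exact fun hu => hf ((X.mem_basicOpen f x hx).2 hu)

/-- The ideal sheaf that is `W` at `x` and trivial elsewhere. -/
def idealAt {x : X} (W : Ideal (X.presheaf.stalk x)) {N : ℕ}
    (hW : IsLocalRing.maximalIdeal (X.presheaf.stalk x) ^ N ≤ W) : X.IdealSheafData where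
  ideal U := ⨅ (h : x ∈ U.1), W.comap (X.presheaf.germ U.1 x h).hom
  map_ideal_basicOpen U f := by
    letI : Algebra Γ(X, U.1) Γ(X, X.basicOpen f) := (X.presheaf.map (homOfLE (X.basicOpen_le f)).op).hom.toAlgebra
    haveI := U.2.isLocalization_basicOpen f
    refine le_antisymm (Ideal.map_le_iff_le_comap.2 fun r hr => ?_) fun r hr => ?_
    · rw [Ideal.mem_comap]
      refine (Ideal.mem_iInf).2 fun h => ?_
      have hxU : x ∈ U.1 := X.basicOpen_le f h
      show X.presheaf.germ (X.basicOpen f) x h _ ∈ W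
      rw [TopCat.Presheaf.germ_res_apply]
      exact (Ideal.mem_iInf.1 hr) hxU
    · obtain ⟨a, ⟨_, m, rfl⟩, rfl⟩ := IsLocalization.exists_mk'_eq (.powers f) (r : Γ(X, X.basicOpen f))
      show IsLocalization.mk' _ a _ ∈ Ideal.map (algebraMap Γ(X, U.1) Γ(X, X.basicOpen f)) _
      rw [IsLocalization.mk'_mem_map_algebraMap_iff]
      by_cases hxf : x ∈ X.basicOpen f
      · refine ⟨1, Submonoid.one_mem _, Ideal.mem_iInf.2 fun h => ?_⟩
        rw [one_mul]
        show X.presheaf.germ U.1 x h a ∈ W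
        have h1 := (Ideal.mem_iInf.1 hr) hxf
        change X.presheaf.germ (X.basicOpen f) x hxf _ ∈ W at h1
        have h2 := IsLocalization.mk'_spec' (M := Submonoid.powers f) (Γ(X, X.basicOpen f)) a ⟨f ^ m, m, rfl⟩
        rw [← TopCat.Presheaf.germ_res_apply X.presheaf (homOfLE (X.basicOpen_le f)) x hxf]
        show X.presheaf.germ (X.basicOpen f) x hxf (algebraMap Γ(X, U.1) Γ(X, X.basicOpen f) a) ∈ W
        rw [← h2, map_mul]
        exact Ideal.mul_mem_left _ _ h1
      · exact ⟨f ^ N, ⟨N, rfl⟩, Ideal.mem_iInf.2 fun h =>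
          show X.presheaf.germ U.1 x h (f ^ N * a) ∈ W by
            rw [map_mul]; exact Ideal.mul_mem_right _ _ (exists_pow_mem hW f h hxf)⟩

variable {x : X} (W : Ideal (X.presheaf.stalk x)) {N : ℕ}
  (hW : IsLocalRing.maximalIdeal (X.presheaf.stalk x) ^ N ≤ W)

theorem support_idealAt (hx : IsClosed ({x} : Set X)) : ((idealAt W hW).support : Set X) ⊆ {x} := by
  intro y hy
  by_contra hne
  obtain ⟨_, ⟨U : X.Opens, hU, rfl⟩, hyU, -⟩ :=
    X.isBasis_affineOpens.exists_subset_of_mem_open (Set.mem_univ y) isOpen_univ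
  have hy' := (Scheme.IdealSheafData.mem_support_iff_of_mem (U := ⟨U, hU⟩) hyU).1 hy
  rw [Scheme.mem_zeroLocus_iff] at hy'
  by_cases hxU : x ∈ U
  · obtain ⟨f, hyf, hxf⟩ : ∃ f : Γ(X, U), y ∈ X.basicOpen f ∧ x ∉ X.basicOpen f := by
      obtain ⟨f, hf, hyf⟩ := hU.exists_basicOpen_le (V := (⟨{x}ᶜ, hx.isOpen_compl⟩ : X.Opens)) ⟨y, hne⟩ hyU
      exact ⟨f, hyf, fun h => hf h rfl⟩
    refine hy' (f ^ N) (Ideal.mem_iInf.2 fun h => exists_pow_mem hW f h hxf) ?_
    rcases Nat.eq_zero_or_pos N with hN | hN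
    · rw [hN, pow_zero, Scheme.basicOpen_of_isUnit _ isUnit_one]; exact hyU
    · rw [Scheme.basicOpen_pow _ f hN]; exact hyf
  · refine hy' 1 (Ideal.mem_iInf.2 fun h => absurd h hxU) ?_
    rw [Scheme.basicOpen_of_isUnit _ isUnit_one]; exact hyU

theorem stalkIdeal_idealAt : IntMult.stalkIdeal (idealAt W hW) x = W := by
  obtain ⟨_, ⟨U : X.Opens, hU, rfl⟩, hxU, -⟩ :=
    X.isBasis_affineOpens.exists_subset_of_mem_open (Set.mem_univ x) isOpen_univ
  rw [IdealStalkLib.stalkIdeal_eq (idealAt W hW) ⟨U, hU⟩ x hxU]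
  letI := TopCat.Presheaf.algebra_section_stalk X.presheaf (⟨x, hxU⟩ : U)
  haveI := hU.isLocalization_stalk ⟨x, hxU⟩
  refine (congrArg _ ?_).trans (IsLocalization.map_comap (hU.primeIdealOf ⟨x, hxU⟩).asIdeal.primeCompl
    (X.presheaf.stalk x) W)
  exact iInf_pos hxU

end Groth.Agent.SingRRLib
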